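import Cfsg.Agent.Lib.Th23.DerivK
import Cfsg.Agent.Lib.ThK83.Tables

/-! The words in nine letters acting on the 17199 points, for the checkers. -/

namespace Cfsg.Agent.Lib.Th23

/-- the 17199 points with a base -/
noncomputable def kPts (base : List Nat) : Pts := ⟨17199, ThK83.tabs.go, base⟩

end Cfsg.Agent.Lib.Th23
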