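import Cfsg.Agent.Lib.Th23.DerivData
import Cfsg.Agent.Lib.Th23.KPts
import Cfsg.Agent.Lib.ThK83.OrbData

/-! Items 0 to 266 of the derivation follow from earlier ones. -/

set_option maxRecDepth 100000
set_option maxHeartbeats 0

namespace Cfsg.Agent.Lib.Th23

open Cfsg.Agent.Lib.LyDC (rangeB band forallB nth)

theorem steps_ok0 : rangeB (deriv.stepOK (kPts ThK83.base)) 267 0 = true := by
  decide +kernel

end Cfsg.Agent.Lib.Th23
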