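import Cfsg.Agent.Lib.Th23.Chain
import Cfsg.Agent.Lib.Th23.OrbitData
import Cfsg.Agent.Lib.Th23.KPts
import Cfsg.Agent.Lib.ThK83.OrbData
import Cfsg.Agent.Lib.Th23.CheckChain2

/-! The stabiliser chain at the coset 5. -/

set_option maxRecDepth 100000
set_option maxHeartbeats 0

namespace Cfsg.Agent.Lib.Th23

theorem chain_ok5 : ChainOK (kPts ThK83.base) chain5 :=
  ⟨by decide +kernel, trivial⟩

theorem chain_len5 : chainLen chain5 = 126 := by decide +kernel

end Cfsg.Agent.Lib.Th23
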