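import Cfsg.Agent.Lib.Th23.CheckChain9
import Cfsg.Agent.Lib.Th23.CheckChain10
import Cfsg.Agent.Lib.Th23.CheckChain11

/-! The stabiliser chains: collects the files with the checks. -/
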