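import Cfsg.Agent.Lib.Th23.DerivData
import Cfsg.Agent.Lib.Th23.OrbitData
import Cfsg.Agent.Lib.Th23.KPts
import Cfsg.Agent.Lib.ThK83.OrbData
import Cfsg.Agent.Lib.Th23.CheckNode6

/-! The stabiliser found at the coset 10 reaches every point. -/

set_option maxRecDepth 100000
set_option maxHeartbeats 0

namespace Cfsg.Agent.Lib.Th23

open Cfsg.Agent.Lib.LyDC (rangeB band forallB nth)

theorem cov_gens10 : deriv.gensOK (kPts ThK83.base) numItems 10 covG10 = true := by decide +kernel

theorem cov_roots10 : deriv.rootsOK (kPts ThK83.base) numItems 10 11 covR10 covM10 = true := by decide +kernel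

theorem cov_run10 : orbRun (kPts ThK83.base) (fstL covG10) covE10 covM10 covAll = true := by decide +kernel

theorem ch_gens10 : deriv.gensOK (kPts ThK83.base) numItems 10 chG10 = true := by decide +kernel

theorem ch_all10 : allGens chain10 = fstL chG10 := by decide +kernel

end Cfsg.Agent.Lib.Th23
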