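import Cfsg.Agent.Lib.Th23.SeventhBase

/-!
The seventh conjugation rule of the Thompson group: `h * u = u * d c d` for
`h = abacbdcdedcbadcbdcd`, from the relators of group 4 in any image of `Kbar`.
Generated from a short coset derivation over the subgroup of `a, b, c, d, e`.
-/

set_option autoImplicit false
set_option maxRecDepth 8000

namespace Cfsg.Agent.Lib.Th23.Seventh

open Cfsg.Agent.Lib

variable {G : Type*} [Group G]

theorem seventh (φ : ThK83.Kbar →* G) (u : G) {a b c d e : G}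
    (ha : a = φ (ThK83.rep.f 0)) (hb : b = φ (ThK83.rep.f 1)) (hc : c = φ (ThK83.rep.f 2))
    (hd : d = φ (ThK83.rep.f 3)) (he : e = φ (ThK83.rep.f 4))
    (huu : (u ^ 2) * ((a * c)⁻¹) = 1) (hua : u⁻¹ * a⁻¹ * u * a = 1)
    (huc : u⁻¹ * c⁻¹ * u * c = 1) (hue : u⁻¹ * e⁻¹ * u * e = 1)
    (hde : (d * e * (u⁻¹ * d * u)) ^ 2 = 1)
    (hf : (u⁻¹ * (b⁻¹ * (a * c) * b)⁻¹ * u * (b⁻¹ * (a * c) * b)) * (e⁻¹) = 1)
    (hg : ((d⁻¹ * u * d)⁻¹ * (b⁻¹ * (a * c) * b)⁻¹ * (d⁻¹ * u * d) * (b⁻¹ * (a * c) * b)) *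
      ((u * e * (b⁻¹ * (a * c) * b) * (d⁻¹ * u * d) * e * c)⁻¹) = 1) :
    φ (ThK83.rep.ev [0x4342341234543423121]) * u = u * φ (ThK83.rep.ev [0x434]) := by
  subst ha hb hc hd he
  have i0 := inv_small (φ := φ) (l := 0) (by norm_num)
  have i1 := inv_small (φ := φ) (l := 1) (by norm_num)
  have i2 := inv_small (φ := φ) (l := 2) (by norm_num)
  have i3 := inv_small (φ := φ) (l := 3) (by norm_num)
  have i4 := inv_small (φ := φ) (l := 4) (by norm_num)
  have r5 : wd φ u [0, 1, 0, 1, 0, 1] = 1 :=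
    wd_rel (k := [0x212121]) (by decide +kernel) (by decide +kernel)
  have r7 : wd φ u [1, 2, 1, 2, 1, 2] = 1 :=
    wd_rel (k := [0x323232]) (by decide +kernel) (by decide +kernel)
  have r8 : wd φ u [1, 3, 1, 3] = 1 :=
    wd_rel (k := [0x4242]) (by decide +kernel) (by decide +kernel)
  have r9 : wd φ u [1, 4, 1, 4] = 1 :=
    wd_rel (k := [0x5252]) (by decide +kernel) (by decide +kernel)
  have r10 : wd φ u [0, 2, 3, 2, 3, 2, 3, 2, 3] = 1 :=
    wd_rel (k := [0x434343431]) (by decide +kernel) (by decide +kernel)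
  have r11 : wd φ u [2, 4, 2, 4] = 1 :=
    wd_rel (k := [0x5353]) (by decide +kernel) (by decide +kernel)
  have r13 : wd φ u [0, 2, 0, 2] = 1 :=
    wd_rel (k := [0x3131]) (by decide +kernel) (by decide +kernel)
  have r15 : wd φ u [5, 5, 2, 0] = 1 := by
    simpa only [wd, lval, List.map_cons, List.map_nil, List.prod_cons, List.prod_nil, mul_one, pow_two,
      mul_inv_rev, inv_inv, mul_assoc, ← i0, ← i1, ← i2, ← i3, ← i4] using huu
  have r16 : wd φ u [6, 0, 5, 0] = 1 := by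
    simpa only [wd, lval, List.map_cons, List.map_nil, List.prod_cons, List.prod_nil, mul_one, pow_two,
      mul_inv_rev, inv_inv, mul_assoc, ← i0, ← i1, ← i2, ← i3, ← i4] using hua
  have r17 : wd φ u [6, 2, 5, 2] = 1 := by
    simpa only [wd, lval, List.map_cons, List.map_nil, List.prod_cons, List.prod_nil, mul_one, pow_two,
      mul_inv_rev, inv_inv, mul_assoc, ← i0, ← i1, ← i2, ← i3, ← i4] using huc
  have r18 : wd φ u [6, 4, 5, 4] = 1 := by
    simpa only [wd, lval, List.map_cons, List.map_nil, List.prod_cons, List.prod_nil, mul_one, pow_two,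
      mul_inv_rev, inv_inv, mul_assoc, ← i0, ← i1, ← i2, ← i3, ← i4] using hue
  have r19 : wd φ u [3, 4, 6, 3, 5, 3, 4, 6, 3, 5] = 1 := by
    simpa only [wd, lval, List.map_cons, List.map_nil, List.prod_cons, List.prod_nil, mul_one, pow_two,
      mul_inv_rev, inv_inv, mul_assoc, ← i0, ← i1, ← i2, ← i3, ← i4] using hde
  have r20 : wd φ u [6, 1, 2, 0, 1, 5, 1, 0, 2, 1, 4] = 1 := by
    simpa only [wd, lval, List.map_cons, List.map_nil, List.prod_cons, List.prod_nil, mul_one, pow_two,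
      mul_inv_rev, inv_inv, mul_assoc, ← i0, ← i1, ← i2, ← i3, ← i4] using hf
  have r21 : wd φ u [3, 6, 3, 1, 2, 0, 1, 3, 5, 3, 1, 0, 2, 1, 2, 4, 3, 6, 3, 1, 2, 0, 1, 4, 6] = 1 := by
    simpa only [wd, lval, List.map_cons, List.map_nil, List.prod_cons, List.prod_nil, mul_one, pow_two,
      mul_inv_rev, inv_inv, mul_assoc, ← i0, ← i1, ← i2, ← i3, ← i4] using hg
  have e0 : Eq1 φ u [] [0] [] [0x1] :=
    k_step (by decide +kernel) (by decide)
  have e1 : Eq1 φ u [] [1] [] [0x2] :=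
    k_step (by decide +kernel) (by decide)
  have e2 : Eq1 φ u [] [2] [] [0x3] :=
    k_step (by decide +kernel) (by decide)
  have e3 : Eq1 φ u [] [3] [] [0x4] :=
    k_step (by decide +kernel) (by decide)
  have e4 : Eq1 φ u [] [4] [] [0x5] :=
    k_step (by decide +kernel) (by decide)
  have e5 : Eq1 φ u [] [5] [5] [] :=
    def_step [] 5
  have e6 : Eq1 φ u [5] [6] [] [] :=
    rev_step (by decide) (by decide +kernel) e5
  have e7 : Eq1 φ u [5] [5] [] [0x31] :=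
    ded_step (by decide) (wd_rot r15 0) (by decide +kernel) (e5) (cons_step e0 (e2))
  have e8 : Eq1 φ u [] [6] [5] [0x31] :=
    rev_step (by decide) (by decide +kernel) e7
  have e9 : Eq1 φ u [5] [0] [5] [0x1] :=
    ded_step (by decide) (wd_rot r16 2) (by decide +kernel) (e5) (cons_step e0 (e5))
  have e10 : Eq1 φ u [5] [4] [5] [0x5] :=
    ded_step (by decide) (wd_rot r18 2) (by decide +kernel) (e5) (cons_step e4 (e5))
  have e11 : Eq1 φ u [5] [2] [5] [0x3] :=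
    ded_step (by decide) (wd_rot r17 2) (by decide +kernel) (e5) (cons_step e2 (e5))
  have e12 : Eq1 φ u [5] [1] [5, 1] [] :=
    def_step [5] 1
  have e13 : Eq1 φ u [5, 1] [1] [5] [] :=
    rev_step (by decide) (by decide +kernel) e12
  have e15 : Eq1 φ u [5, 1] [2] [5, 1, 2] [] :=
    def_step [5, 1] 2
  have e17 : Eq1 φ u [5, 1, 2] [0] [5, 1] [0x52312] :=
    ded_step (by decide) (wd_rot_inv r20 (by decide) 2) (by decide +kernel) (e15) (cons_step e13 (cons_step e10 (cons_step e6 (cons_step e1 (cons_step e2 (cons_step e0 (cons_step e1 (cons_step e5 (e12)))))))))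
  have e26 : Eq1 φ u [5, 1] [3] [5, 1, 3] [] :=
    def_step [5, 1] 3
  have e27 : Eq1 φ u [5, 1, 3] [3] [5, 1] [] :=
    rev_step (by decide) (by decide +kernel) e26
  have e37 : Eq1 φ u [5] [3] [5, 3] [] :=
    def_step [5] 3
  have e38 : Eq1 φ u [5, 3] [3] [5] [] :=
    rev_step (by decide) (by decide +kernel) e37
  have e39 : Eq1 φ u [5, 3] [1] [5, 1, 3] [] :=
    ded_step (by decide) (wd_rot r8 1) (by decide +kernel) (e37) (cons_step e12 (e26))
  have e40 : Eq1 φ u [5, 1, 3] [1] [5, 3] [] :=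
    rev_step (by decide) (by decide +kernel) e39
  have e41 : Eq1 φ u [5, 1, 3] [2] [5, 1, 3, 2] [] :=
    def_step [5, 1, 3] 2
  have e42 : Eq1 φ u [5, 1, 3, 2] [2] [5, 1, 3] [] :=
    rev_step (by decide) (by decide +kernel) e41
  have e51 : Eq1 φ u [5, 1, 3] [4] [5, 1, 3, 4] [] :=
    def_step [5, 1, 3] 4
  have e52 : Eq1 φ u [5, 1, 3, 4] [4] [5, 1, 3] [] :=
    rev_step (by decide) (by decide +kernel) e51
  have e54 : Eq1 φ u [5, 1, 3] [0] [5, 1, 3, 0] [] :=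
    def_step [5, 1, 3] 0
  have e55 : Eq1 φ u [5, 1, 3, 0] [0] [5, 1, 3] [] :=
    rev_step (by decide) (by decide +kernel) e54
  have e58 : Eq1 φ u [5, 3] [4] [5, 3, 4] [] :=
    def_step [5, 3] 4
  have e59 : Eq1 φ u [5, 3, 4] [4] [5, 3] [] :=
    rev_step (by decide) (by decide +kernel) e58
  have e60 : Eq1 φ u [5, 3, 4] [1] [5, 1, 3, 4] [] :=
    ded_step (by decide) (wd_rot r9 1) (by decide +kernel) (e58) (cons_step e39 (e51))
  have e63 : Eq1 φ u [5, 3] [2] [5, 3, 2] [] :=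
    def_step [5, 3] 2
  have e64 : Eq1 φ u [5, 3, 2] [2] [5, 3] [] :=
    rev_step (by decide) (by decide +kernel) e63
  have e78 : Eq1 φ u [5, 3, 2] [3] [5, 3, 2, 3] [] :=
    def_step [5, 3, 2] 3
  have e79 : Eq1 φ u [5, 3, 2, 3] [3] [5, 3, 2] [] :=
    rev_step (by decide) (by decide +kernel) e78
  have e80 : Eq1 φ u [5, 3, 2, 3] [2] [5, 3, 2, 3] [0x31] :=
    ded_step (by decide) (wd_rot r10 4) (by decide +kernel) (e78) (cons_step e64 (cons_step e38 (cons_step e11 (cons_step e9 (cons_step e37 (cons_step e63 (e78)))))))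
  have e81 : Eq1 φ u [5, 3] [0] [5, 3] [0x1] :=
    ded_step (by decide) (wd_rot_inv r10 (by decide) 4) (by decide +kernel) (cons_step e78 (cons_step e80 (cons_step e79 (e64)))) (cons_step e64 (cons_step e38 (cons_step e11 (e37))))
  have e83 : Eq1 φ u [5, 3, 2] [0] [5, 3, 2] [0x1] :=
    ded_step (by decide) (wd_rot r10 8) (by decide +kernel) (e79) (cons_step e80 (cons_step e79 (cons_step e64 (cons_step e38 (cons_step e11 (cons_step e37 (e63)))))))
  have e85 : Eq1 φ u [5, 1, 3, 0] [1] [5, 1, 3, 0] [0x1] :=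
    ded_step (by decide) (wd_rot r5 0) (by decide +kernel) (cons_step e81 (cons_step e39 (e54))) (cons_step e39 (e54))
  have e102 : Eq1 φ u [5, 1, 3, 4] [2] [5, 1, 3, 4, 2] [] :=
    def_step [5, 1, 3, 4] 2
  have e103 : Eq1 φ u [5, 1, 3, 4, 2] [2] [5, 1, 3, 4] [] :=
    rev_step (by decide) (by decide +kernel) e102
  have e104 : Eq1 φ u [5, 1, 3, 4, 2] [4] [5, 1, 3, 2] [] :=
    ded_step (by decide) (wd_rot r11 0) (by decide +kernel) (e102) (cons_step e52 (e41))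
  have e105 : Eq1 φ u [5, 1, 3, 2] [4] [5, 1, 3, 4, 2] [] :=
    rev_step (by decide) (by decide +kernel) e104
  have e106 : Eq1 φ u [5, 3, 4] [6] [5, 3, 4, 6] [] :=
    def_step [5, 3, 4] 6
  have e107 : Eq1 φ u [5, 3, 4, 6] [5] [5, 3, 4] [] :=
    rev_step (by decide) (by decide +kernel) e106
  have e118 : Eq1 φ u [5, 1, 3, 0] [2] [5, 1, 3, 0, 2] [] :=
    def_step [5, 1, 3, 0] 2
  have e119 : Eq1 φ u [5, 1, 3, 0, 2] [2] [5, 1, 3, 0] [] :=
    rev_step (by decide) (by decide +kernel) e118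
  have e122 : Eq1 φ u [5, 1, 3, 0, 2] [0] [5, 1, 3, 2] [] :=
    ded_step (by decide) (wd_rot r13 1) (by decide +kernel) (e118) (cons_step e55 (e41))
  have e123 : Eq1 φ u [5, 1, 3, 2] [0] [5, 1, 3, 0, 2] [] :=
    rev_step (by decide) (by decide +kernel) e122
  have e133 : Eq1 φ u [5, 3, 2] [4] [5, 3, 2, 4] [] :=
    def_step [5, 3, 2] 4
  have e134 : Eq1 φ u [5, 3, 2, 4] [4] [5, 3, 2] [] :=
    rev_step (by decide) (by decide +kernel) e133
  have e135 : Eq1 φ u [5, 3, 2, 4] [2] [5, 3, 4] [] :=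
    ded_step (by decide) (wd_rot r11 1) (by decide +kernel) (e133) (cons_step e64 (e58))
  have e160 : Eq1 φ u [5, 3, 4, 6] [3] [5, 3, 4, 6, 3] [] :=
    def_step [5, 3, 4, 6] 3
  have e161 : Eq1 φ u [5, 3, 4, 6, 3] [3] [5, 3, 4, 6] [] :=
    rev_step (by decide) (by decide +kernel) e160
  have e162 : Eq1 φ u [5, 3, 4, 6, 3] [5] [5, 3] [0x54] :=
    ded_step (by decide) (wd_rot r19 3) (by decide +kernel) (e160) (cons_step e107 (cons_step e59 (cons_step e38 (cons_step e6 (cons_step e3 (cons_step e5 (cons_step e10 (e37))))))))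
  have e164 : Eq1 φ u [5, 3, 2] [5] [5, 3, 4, 6, 3] [0x451] :=
    ded_step (by decide) (wd_rot r15 1) (by decide +kernel) (cons_step e162 (cons_step e63 (e83))) (nil_step [5, 3, 4, 6, 3])
  have e165 : Eq1 φ u [5, 3, 4, 6, 3] [6] [5, 3, 2] [0x541] :=
    rev_step (by decide) (by decide +kernel) e164
  have e179 : Eq1 φ u [5, 1, 3, 2] [3] [5, 1, 3, 2, 3] [] :=
    def_step [5, 1, 3, 2] 3
  have e180 : Eq1 φ u [5, 1, 3, 2, 3] [3] [5, 1, 3, 2] [] :=
    rev_step (by decide) (by decide +kernel) e179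
  have e181 : Eq1 φ u [5, 1, 3, 2, 3] [2] [5, 1, 3, 2, 3] [0x52312] :=
    ded_step (by decide) (wd_rot r10 4) (by decide +kernel) (e179) (cons_step e42 (cons_step e27 (cons_step e15 (cons_step e17 (cons_step e26 (cons_step e41 (e179)))))))
  have e218 : Eq1 φ u [5, 1, 3, 2] [1] [5, 1, 3, 2, 1] [] :=
    def_step [5, 1, 3, 2] 1
  have e219 : Eq1 φ u [5, 1, 3, 2, 1] [1] [5, 1, 3, 2] [] :=
    rev_step (by decide) (by decide +kernel) e218
  have e228 : Eq1 φ u [5, 3, 2] [1] [5, 3, 2, 1] [] :=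
    def_step [5, 3, 2] 1
  have e230 : Eq1 φ u [5, 3, 2, 1] [2] [5, 1, 3, 2, 1] [] :=
    ded_step (by decide) (wd_rot r7 0) (by decide +kernel) (e228) (cons_step e64 (cons_step e39 (cons_step e41 (e218))))
  have e242 : Eq1 φ u [5, 1, 3, 2, 1] [4] [5, 1, 3, 2, 1, 4] [] :=
    def_step [5, 1, 3, 2, 1] 4
  have e244 : Eq1 φ u [5, 1, 3, 2, 1, 4] [1] [5, 1, 3, 4, 2] [] :=
    ded_step (by decide) (wd_rot r9 1) (by decide +kernel) (e242) (cons_step e219 (e105))
  have e245 : Eq1 φ u [5, 1, 3, 4, 2] [1] [5, 1, 3, 2, 1, 4] [] :=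
    rev_step (by decide) (by decide +kernel) e244
  have e250 : Eq1 φ u [5, 3, 2, 4] [1] [5, 3, 2, 4, 1] [] :=
    def_step [5, 3, 2, 4] 1
  have e252 : Eq1 φ u [5, 3, 2, 4, 1] [4] [5, 3, 2, 1] [] :=
    ded_step (by decide) (wd_rot r9 0) (by decide +kernel) (e250) (cons_step e134 (e228))
  have e254 : Eq1 φ u [5, 3, 2, 4, 1] [2] [5, 1, 3, 2, 1, 4] [] :=
    ded_step (by decide) (wd_rot r7 0) (by decide +kernel) (e250) (cons_step e135 (cons_step e60 (cons_step e102 (e245))))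
  have e255 : Eq1 φ u [5, 1, 3, 2, 1, 4] [2] [5, 3, 2, 4, 1] [] :=
    rev_step (by decide) (by decide +kernel) e254
  have e258 : Eq1 φ u [5, 3, 2, 3] [1] [5, 3, 2, 3, 1] [] :=
    def_step [5, 3, 2, 3] 1
  have e259 : Eq1 φ u [5, 3, 2, 3, 1] [1] [5, 3, 2, 3] [] :=
    rev_step (by decide) (by decide +kernel) e258
  have e260 : Eq1 φ u [5, 3, 2, 3, 1] [3] [5, 3, 2, 1] [] :=
    ded_step (by decide) (wd_rot r8 0) (by decide +kernel) (e258) (cons_step e79 (e228))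
  have e261 : Eq1 φ u [5, 3, 2, 1] [3] [5, 3, 2, 3, 1] [] :=
    rev_step (by decide) (by decide +kernel) e260
  have e310 : Eq1 φ u [5, 1, 3, 2, 3] [1] [5, 1, 3, 2, 3, 1] [] :=
    def_step [5, 1, 3, 2, 3] 1
  have e311 : Eq1 φ u [5, 1, 3, 2, 3, 1] [1] [5, 1, 3, 2, 3] [] :=
    rev_step (by decide) (by decide +kernel) e310
  have e312 : Eq1 φ u [5, 1, 3, 2, 3, 1] [3] [5, 1, 3, 2, 1] [] :=
    ded_step (by decide) (wd_rot r8 0) (by decide +kernel) (e310) (cons_step e180 (e218))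
  have e313 : Eq1 φ u [5, 1, 3, 2, 1] [3] [5, 1, 3, 2, 3, 1] [] :=
    rev_step (by decide) (by decide +kernel) e312
  have e410 : Eq1 φ u [5, 1, 3, 0, 2] [1] [5, 1, 3, 0, 2, 1] [] :=
    def_step [5, 1, 3, 0, 2] 1
  have e411 : Eq1 φ u [5, 1, 3, 0, 2, 1] [1] [5, 1, 3, 0, 2] [] :=
    rev_step (by decide) (by decide +kernel) e410
  have e412 : Eq1 φ u [5, 1, 3, 0, 2, 1] [2] [5, 1, 3, 0, 2, 1] [0x1] :=
    ded_step (by decide) (wd_rot r7 0) (by decide +kernel) (e410) (cons_step e119 (cons_step e85 (cons_step e118 (e410))))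
  have e413 : Eq1 φ u [5, 1, 3, 0, 2, 1] [4] [5, 1, 3, 0, 2, 1, 4] [] :=
    def_step [5, 1, 3, 0, 2, 1] 4
  have e414 : Eq1 φ u [5, 1, 3, 0, 2, 1, 4] [4] [5, 1, 3, 0, 2, 1] [] :=
    rev_step (by decide) (by decide +kernel) e413
  have e418 : Eq1 φ u [5, 1, 3, 0, 2, 1] [3] [5, 1, 3, 0, 2, 1, 3] [] :=
    def_step [5, 1, 3, 0, 2, 1] 3
  have e419 : Eq1 φ u [5, 1, 3, 0, 2, 1, 3] [3] [5, 1, 3, 0, 2, 1] [] :=
    rev_step (by decide) (by decide +kernel) e418
  have e422 : Eq1 φ u [5, 1, 3, 0, 2, 1, 4] [6] [5, 1, 3, 0, 2, 1, 4, 6] [] :=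
    def_step [5, 1, 3, 0, 2, 1, 4] 6
  have e423 : Eq1 φ u [5, 1, 3, 0, 2, 1, 4, 6] [5] [5, 1, 3, 0, 2, 1, 4] [] :=
    rev_step (by decide) (by decide +kernel) e422
  have e425 : Eq1 φ u [5, 1, 3, 0, 2, 1, 4, 6] [3] [5, 1, 3, 0, 2, 1, 4, 6, 3] [] :=
    def_step [5, 1, 3, 0, 2, 1, 4, 6] 3
  have e427 : Eq1 φ u [5, 1, 3, 0, 2, 1, 4, 6, 3] [6] [5, 1, 3, 0, 2, 1, 3] [0x3452341231] :=
    ded_step (by decide) (wd_rot r21 0) (by decide +kernel) (e425) (cons_step e423 (cons_step e414 (cons_step e411 (cons_step e122 (cons_step e42 (cons_step e40 (cons_step e38 (cons_step e7 (cons_step e3 (cons_step e4 (cons_step e2 (cons_step e1 (cons_step e2 (cons_step e0 (cons_step e1 (cons_step e3 (cons_step e8 (cons_step e37 (cons_step e39 (cons_step e54 (cons_step e118 (cons_step e410 (e418)))))))))))))))))))))))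
  have e464 : Eq1 φ u [5, 3, 4, 6] [1] [5, 3, 4, 6, 1] [] :=
    def_step [5, 3, 4, 6] 1
  have e465 : Eq1 φ u [5, 3, 4, 6, 1] [1] [5, 3, 4, 6] [] :=
    rev_step (by decide) (by decide +kernel) e464
  have e495 : Eq1 φ u [5, 3, 4, 6, 1] [2] [5, 3, 4, 6, 1, 2] [] :=
    def_step [5, 3, 4, 6, 1] 2
  have e496 : Eq1 φ u [5, 3, 4, 6, 1, 2] [2] [5, 3, 4, 6, 1] [] :=
    rev_step (by decide) (by decide +kernel) e495
  have e501 : Eq1 φ u [5, 1, 3, 0, 2, 1] [6] [5, 1, 3, 0, 2, 1, 6] [] :=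
    def_step [5, 1, 3, 0, 2, 1] 6
  have e507 : Eq1 φ u [5, 1, 3, 0, 2, 1, 6] [2] [5, 1, 3, 0, 2, 1, 6] [0x1] :=
    ded_step (by decide) (wd_rot r17 0) (by decide +kernel) (e501) (cons_step e412 (e501))
  have e508 : Eq1 φ u [5, 1, 3, 0, 2, 1, 6] [4] [5, 1, 3, 0, 2, 1, 4, 6] [] :=
    ded_step (by decide) (wd_rot r18 0) (by decide +kernel) (e501) (cons_step e413 (e422))
  have e529 : Eq1 φ u [5, 3, 4, 6, 1, 2] [0] [5, 3, 4, 6, 1, 2, 0] [] :=
    def_step [5, 3, 4, 6, 1, 2] 0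
  have e533 : Eq1 φ u [5, 3, 4, 6, 1, 2, 0] [1] [5, 1, 3, 0, 2, 1, 6] [] :=
    ded_step (by decide) (wd_rot r20 3) (by decide +kernel) (e529) (cons_step e496 (cons_step e465 (cons_step e107 (cons_step e59 (cons_step e39 (cons_step e41 (cons_step e123 (cons_step e410 (e501)))))))))
  have e553 : Eq1 φ u [5, 3, 4, 6, 1] [0] [5, 3, 4, 6, 1, 0] [] :=
    def_step [5, 3, 4, 6, 1] 0
  have e557 : Eq1 φ u [5, 3, 4, 6, 1, 0] [2] [5, 3, 4, 6, 1, 2, 0] [] :=
    ded_step (by decide) (wd_rot r13 0) (by decide +kernel) (e553) (cons_step e495 (e529))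
  have e560 : Eq1 φ u [5, 3, 2, 3, 1] [0] [5, 3, 2, 3, 1, 0] [] :=
    def_step [5, 3, 2, 3, 1] 0
  have e561 : Eq1 φ u [5, 3, 2, 3, 1, 0] [0] [5, 3, 2, 3, 1] [] :=
    rev_step (by decide) (by decide +kernel) e560
  have e562 : Eq1 φ u [5, 3, 2, 3, 1, 0] [2] [5, 3, 2, 3, 1] [0x54345234123453] :=
    ded_step (by decide) (wd_rot_inv r21 (by decide) 19) (by decide +kernel) (e560) (cons_step e259 (cons_step e79 (cons_step e164 (cons_step e161 (cons_step e464 (cons_step e553 (cons_step e557 (cons_step e533 (cons_step e507 (cons_step e508 (cons_step e425 (cons_step e427 (cons_step e419 (cons_step e411 (cons_step e119 (cons_step e55 (cons_step e40 (cons_step e58 (cons_step e106 (cons_step e160 (cons_step e165 (cons_step e78 (e258)))))))))))))))))))))))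
  have e567 : Eq1 φ u [5, 1, 3, 2, 3, 1] [2] [5, 1, 3, 2, 3, 1] [0x54345234123453] :=
    ded_step (by decide) (wd_rot_inv r10 (by decide) 8) (by decide +kernel) (cons_step e561 (cons_step e260 (cons_step e230 (e313)))) (cons_step e562 (cons_step e260 (cons_step e230 (e313))))
  have e568 : Eq1 φ u [5, 1, 3, 2, 3, 1] [] [5, 1, 3, 2, 3] [0x4342341234543423121] :=
    ded_step (by decide) (wd_rot r7 0) (by decide +kernel) (nil_step [5, 1, 3, 2, 3, 1]) (cons_step e567 (cons_step e311 (cons_step e181 (cons_step e310 (cons_step e567 (e311))))))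
  have e569 : Eq1 φ u [5, 1, 3, 2, 1] [] [5, 1, 3, 2] [0x4342341234543423121] :=
    join_step (by decide +kernel) (e312) (cons_step e568 (e180))
  have e570 : Eq1 φ u [5, 1, 3, 2, 1, 4] [] [5, 1, 3, 4, 2] [0x4342341234543423121] :=
    join_step (by decide +kernel) (e242) (cons_step e569 (e105))
  have e571 : Eq1 φ u [5, 3, 2, 4, 1] [] [5, 1, 3, 4] [0x4342341234543423121] :=
    join_step (by decide +kernel) (e255) (cons_step e570 (e103))
  have e572 : Eq1 φ u [5, 3, 2, 1] [] [5, 1, 3] [0x4342341234543423121] :=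
    join_step (by decide +kernel) (e252) (cons_step e571 (e52))
  have e573 : Eq1 φ u [5, 3, 2, 3, 1] [] [5, 1] [0x4342341234543423121] :=
    join_step (by decide +kernel) (e261) (cons_step e572 (e27))
  have e575 : Eq1 φ u [5, 3, 2, 3] [] [5] [0x4342341234543423121] :=
    join_step (by decide +kernel) (e259) (cons_step e573 (e13))
  have e577 : Eq1 φ u [5, 3, 2] [] [5, 3] [0x4342341234543423121] :=
    join_step (by decide +kernel) (e79) (cons_step e575 (e37))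
  have f1 : Eq1 φ u [5] [] [5] [] :=
    norm_step (by decide +kernel) (nil_step [5])
  have f2 : Eq1 φ u [5] [3, 2, 3] [5] [0x4342341234543423121] :=
    norm_step (by decide +kernel) (cons_step e37 (cons_step e63 (cons_step e577 (e38))))
  have h : φ (ThK83.rep.ev [0x4342341234543423121]) = φ (ThK83.rep.ev [0x4342341234543423121]) * φ (ThK83.rep.ev []) := by
    rw [← map_mul, ← ThK83.rep.ev_append]
    exact congrArg φ (ev_eq (by decide +kernel))
  unfold Eq1 at f1 f2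
  rw [wd_nil, mul_one] at f1
  rw [h, mul_assoc, ← f1] at f2
  have hdcd : wd φ u [3, 2, 3] = φ (ThK83.rep.ev [0x434]) :=
    wd_decode (k := [0x434]) (by decide +kernel)
  have hu : wd φ u [5] = u := by simp [wd, lval]
  rw [hu, hdcd] at f2
  exact f2.symm

end Cfsg.Agent.Lib.Th23.Seventh
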