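import Cfsg.Agent.Lib.Th23.CtxOf
import Cfsg.Agent.Lib.Th23.SeventhPair

/-!
The upper bound from a checked derivation: in any group, eight elements with the relators 1-36
generate at most 90745943887872000 elements, the first seven a subgroup of index at most
143127000 in that group.
-/

set_option autoImplicit false
set_option linter.unusedSimpArgs false

namespace Cfsg.Agent.Lib.Th23

open Cfsg Cfsg.Spor
open Cfsg.Agent.Lib.ThK83 (Kbar rep)
open Cfsg.Agent.Lib.LyDC (nth band forallB rangeB band_eq forallB_iff rangeB_spec bltN_iff nth_eq)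

/-- the relators needed for the bound -/
def upperIdx : List ℕ := List.range 37

theorem dcIdx_sub : ∀ i ∈ dcIdx, i ∈ upperIdx := by decide

theorem seventh_of_rels {G : Type*} [Group G] {A B C D E S T U : G} {φ : Kbar →* G}
    (m : KMaps φ A B C D E S T) (h : RelsHold upperIdx A B C D E S T U) : Seventh φ U := by
  have g : ∀ i < 37, ∀ r, Th.extra[i]? = some r →
      FreeGroup.lift (thVal A B C D E S T U) r = 1 := fun i hi => h i (List.mem_range.2 hi)
  have e27 := g 27 (by decide) _ rfl
  have e28 := g 28 (by decide) _ rfl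
  have e29 := g 29 (by decide) _ rfl
  have e30 := g 30 (by decide) _ rfl
  have e31 := g 31 (by decide) _ rfl
  have e32 := g 32 (by decide) _ rfl
  have e33 := g 33 (by decide) _ rfl
  simp only [map_mul, map_inv, map_pow, FreeGroup.lift_apply_of, thVal]
    at e27 e28 e29 e30 e31 e32 e33
  exact Seventh.seventh φ U m.ha.symm m.hb.symm m.hc.symm m.hd.symm m.he.symm
    e27 e28 e29 e30 e31 e32 e33

/-- the orders of the eleven stabilisers in the Thompson group -/
def thStab : List ℕ := [634023936, 36864, 6, 288, 13824, 126, 486, 72, 54, 78, 3528]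

/-- a derivation with the covering and chain data for eleven double cosets -/
structure ThCover where
  R : ThDeriv
  cover : ∀ j, 1 ≤ j → j < 11 → Nonempty (CoverData (kPts ThK83.base) R.D R.N 11 j)
  gl : ℕ → List (List ℕ × List (ℕ × Bool))
  lev : ℕ → List Level
  gens : ∀ j, 1 ≤ j → j < 11 → R.D.gensOK (kPts ThK83.base) R.N j (gl j) = true
  lev_gens : ∀ j, 1 ≤ j → j < 11 → allGens (lev j) = fstL (gl j)
  lev_ok : ∀ j, 1 ≤ j → j < 11 → ChainOK (kPts ThK83.base) (lev j)
  lev_len : ∀ j, 1 ≤ j → j < 11 → thStab.getD j 0 ∣ chainLen (lev j)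
  /-- the letters are transitive on the points -/
  trans : ∃ gl cs m₁, orbRun (kPts ThK83.base) gl cs 1 m₁ = true ∧
    countBits (kPts ThK83.base) m₁ = 17199
  tok_fix : fixOK (kPts ThK83.base) thTokW [0] = true
  tokLev : List Level
  /-- the generators of the chain as products of tokens -/
  tokA : List (List ℕ)
  tok_sub : rangeB (fun i => band (forallB (fun x => Nat.blt x 14) (nth [] tokA i))
    ((kPts ThK83.base).eqW (nth [] (allGens tokLev) i) (catW thTokW (nth [] tokA i))))
      (allGens tokLev).length 0 = true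
  tok_ok : ChainOK (kPts ThK83.base) tokLev
  tok_len : 36864 ∣ chainLen tokLev

theorem catW_mem_wordGroup : ∀ a : List ℕ, (∀ x ∈ a, x < 14) →
    kM.ev (catW thTokW a) ∈ kM.wordGroup thTokW
  | [], _ => by
    show kM.ev [] ∈ _
    rw [kM.ev_nil]; exact one_mem _
  | x :: a, h => by
    show kM.ev (nth [] thTokW x ++ catW thTokW a) ∈ _
    rw [kM.ev_append]
    refine mul_mem (kM.word_mem ?_)
      (catW_mem_wordGroup a fun y hy => h y (List.mem_cons_of_mem _ hy))
    have hx : x < thTokW.length := h x (List.mem_cons_self ..)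
    rw [nth_eq, List.getD_eq_getElem _ _ hx]
    exact List.getElem_mem _

namespace ThCover

variable (Z : ThCover)

theorem fix_le : kM.fixList [0] ≤ kM.tokGroup Z.R.D := by
  obtain ⟨gl, cs, m₁, hr, hn⟩ := Z.trans
  refine kM.fix_zero_le_tok Z.R.D (show 0 < (kPts ThK83.base).n by decide)
    (Z.R.tokW ▸ Z.tok_fix) hr rfl hn (c := 36864) ?_ ?_
  · rw [ThK83.card_Kbar]; exact le_rfl
  · refine Nat.le_of_dvd Nat.card_pos ((Z.tok_len.trans (chain_dvd kM Z.tok_ok)).trans
      (Subgroup.card_dvd_of_le (kM.wordGroup_le fun w hw => ?_)))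
    obtain ⟨i, hi, rfl⟩ := List.getElem_of_mem hw
    have h := rangeB_spec Z.tok_sub i (Nat.zero_le _) (by omega)
    simp only [band_eq, Bool.and_eq_true, forallB_iff, bltN_iff] at h
    rw [← List.getD_eq_getElem _ [] hi, ← nth_eq, kM.eq_of_eqW h.2]
    show _ ∈ kM.wordGroup Z.R.D.tokW
    rw [Z.R.tokW]
    exact catW_mem_wordGroup _ h.1

variable {G : Type*} [Group G] (C : Ctx kM Z.R.D G)

theorem stab_dvd (hN : C.N = Z.R.N) :
    ∀ j < 11, thStab.getD j 0 ∣ Nat.card (C.S j) := by
  intro j hj
  rcases Nat.eq_zero_or_pos j with rfl | h1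
  · rw [C.S_zero, Subgroup.card_top, ThK83.card_Kbar]; exact dvd_refl _
  · exact (Z.lev_len j h1 hj).trans
      (C.stab_dvd (hN.symm ▸ Z.gens j h1 hj) (Z.lev_gens j h1 hj) (Z.lev_ok j h1 hj))

theorem covered (hN : C.N = Z.R.N) (hgen : Subgroup.closure ((C.φ.range : Set G) ∪ {C.u}) = ⊤) :
    C.Covered 11 where
  two_le := by decide
  pos := show 0 < (kPts ThK83.base).n by decide
  fix_le := Z.fix_le
  cover j h1 h2 := hN.symm ▸ Z.cover j h1 h2
  gen := hgen

theorem stab_pos_le (hN : C.N = Z.R.N) :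
    ∀ j < 11, 0 < thStab.getD j 0 ∧ thStab.getD j 0 ≤ Nat.card (C.S j) := fun j hj =>
  ⟨(show ∀ j < 11, 0 < thStab.getD j 0 by decide) j hj,
    Nat.le_of_dvd Nat.card_pos (Z.stab_dvd C hN j hj)⟩

theorem sum_index : ∑ j ∈ Finset.range 11, Nat.card Kbar / thStab.getD j 0 = 143127000 := by
  rw [ThK83.card_Kbar]
  simp [Finset.sum_range_succ, thStab]

theorem index_le (hN : C.N = Z.R.N)
    (hgen : Subgroup.closure ((C.φ.range : Set G) ∪ {C.u}) = ⊤) :
    Finite (G ⧸ C.φ.range) ∧ C.φ.range.index ≤ 143127000 := by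
  have h := (Z.covered C hN hgen).index_le _ (Z.stab_pos_le C hN)
  rwa [sum_index] at h

theorem card_le (hN : C.N = Z.R.N)
    (hgen : Subgroup.closure ((C.φ.range : Set G) ∪ {C.u}) = ⊤) :
    Finite G ∧ Nat.card G ≤ 90745943887872000 := by
  have h := (Z.covered C hN hgen).card_le _ (Z.stab_pos_le C hN)
  rwa [sum_index, ThK83.card_Kbar, show 143127000 * 634023936 = 90745943887872000 by norm_num] at h

end ThCover

variable {G : Type*} [Group G] {A B C D E S T U : G}

/-- the context of a cover in a group with the relators -/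
theorem exists_ctx (Z : ThCover) (h : RelsHold upperIdx A B C D E S T U)
    (hgen : Subgroup.closure ({A, B, C, D, E, S, T, U} : Set G) = ⊤) :
    ∃ X : Ctx kM Z.R.D G, X.N = Z.R.N ∧ X.u = U ∧
      X.φ.range = Subgroup.closure {A, B, C, D, E, S, T} ∧
      Subgroup.closure ((X.φ.range : Set G) ∪ {X.u}) = ⊤ := by
  obtain ⟨φ, m⟩ := exists_kMaps (kRel_of_rels h fun i hi =>
    List.mem_range.2 (lt_trans hi (by decide)))
  exact ⟨ctxOf Z.R m h dcIdx_sub (seventh_of_rels m h), rfl, rfl, m.range_eq, gen_top m hgen⟩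

/-- the index of the subgroup of the first seven generators -/
theorem index_le_of_rels (Z : ThCover) (h : RelsHold upperIdx A B C D E S T U)
    (hgen : Subgroup.closure ({A, B, C, D, E, S, T, U} : Set G) = ⊤) :
    Finite (G ⧸ Subgroup.closure ({A, B, C, D, E, S, T} : Set G)) ∧
      (Subgroup.closure ({A, B, C, D, E, S, T} : Set G)).index ≤ 143127000 := by
  obtain ⟨X, hN, -, hr, hg⟩ := exists_ctx Z h hgen
  rw [← hr]
  exact Z.index_le X hN hg

/-- the order of the group generated by the eight elements -/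
theorem closure_card_le (Z : ThCover) (h : RelsHold upperIdx A B C D E S T U) :
    Finite (Subgroup.closure ({A, B, C, D, E, S, T, U} : Set G)) ∧
      Nat.card (Subgroup.closure ({A, B, C, D, E, S, T, U} : Set G)) ≤ 90745943887872000 := by
  set K := Subgroup.closure ({A, B, C, D, E, S, T, U} : Set G) with hK
  have mem : ∀ x ∈ ({A, B, C, D, E, S, T, U} : Set G), x ∈ K := fun x hx =>
    Subgroup.subset_closure hx
  have h' : RelsHold upperIdx (⟨A, mem A (by simp)⟩ : K) ⟨B, mem B (by simp)⟩ ⟨C, mem C (by simp)⟩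
      ⟨D, mem D (by simp)⟩ ⟨E, mem E (by simp)⟩ ⟨S, mem S (by simp)⟩ ⟨T, mem T (by simp)⟩
      ⟨U, mem U (by simp)⟩ := by
    intro i hi r hr
    refine K.subtype_injective ?_
    rw [map_one, ← h i hi r hr]
    exact DFunLike.congr_fun (FreeGroup.ext_hom (K.subtype.comp (FreeGroup.lift _))
      (FreeGroup.lift (thVal A B C D E S T U)) fun x => by cases x <;> simp [thVal]) r
  obtain ⟨X, hN, -, -, hg⟩ := exists_ctx Z h' (by
    apply Subgroup.map_injective K.subtype_injective
    rw [MonoidHom.map_closure, ← MonoidHom.range_eq_map, Subgroup.range_subtype]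
    conv_rhs => rw [hK]
    congr 1
    simp [Set.image_insert_eq, Set.image_singleton])
  exact Z.card_le X hN hg

end Cfsg.Agent.Lib.Th23
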