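import Cfsg.Agent.Lib.Th23.CheckWords
import Cfsg.Agent.Lib.Th23.CheckChains
import Cfsg.Agent.Lib.Th23.Upper
import Cfsg.Agent.Lib.Th23.CheckNode1
import Cfsg.Agent.Lib.Th23.CheckNode2
import Cfsg.Agent.Lib.Th23.CheckNode3
import Cfsg.Agent.Lib.Th23.CheckNode4
import Cfsg.Agent.Lib.Th23.CheckNode5
import Cfsg.Agent.Lib.Th23.CheckNode6
import Cfsg.Agent.Lib.Th23.CheckNode7
import Cfsg.Agent.Lib.Th23.CheckNode8
import Cfsg.Agent.Lib.Th23.CheckNode9
import Cfsg.Agent.Lib.Th23.CheckNode10
import Cfsg.Agent.Lib.Th23.CheckSteps0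
import Cfsg.Agent.Lib.Th23.CheckSteps1
import Cfsg.Agent.Lib.Th23.CheckSteps2
import Cfsg.Agent.Lib.Th23.CheckSteps3
import Cfsg.Agent.Lib.Th23.CheckSteps4
import Cfsg.Agent.Lib.Th23.CheckSteps5
import Cfsg.Agent.Lib.Th23.CheckSteps6
import Cfsg.Agent.Lib.Th23.CheckSteps7
import Cfsg.Agent.Lib.Th23.CheckSteps8
import Cfsg.Agent.Lib.Th23.CheckSteps9
import Cfsg.Agent.Lib.Th23.CheckSteps10
import Cfsg.Agent.Lib.Th23.CheckSteps11
import Cfsg.Agent.Lib.Th23.CheckSteps12
import Cfsg.Agent.Lib.Th23.CheckSteps13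
import Cfsg.Agent.Lib.Th23.CheckSteps14
import Cfsg.Agent.Lib.Th23.CheckSteps15

/-! The checked certificate of the upper bound for the presented Thompson group. -/

set_option autoImplicit false

namespace Cfsg.Agent.Lib.Th23

open Cfsg.Agent.Lib.LyDC (rangeB rangeB_spec)

theorem steps_all : ∀ q < numItems, deriv.stepOK (kPts ThK83.base) q = true := by
  intro q hq
  have hq : q < 4271 := hq
  by_cases h0 : q < 267
  · exact rangeB_spec steps_ok0 q (by omega) (by omega)
  by_cases h1 : q < 534
  · exact rangeB_spec steps_ok1 q (by omega) (by omega)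
  by_cases h2 : q < 801
  · exact rangeB_spec steps_ok2 q (by omega) (by omega)
  by_cases h3 : q < 1068
  · exact rangeB_spec steps_ok3 q (by omega) (by omega)
  by_cases h4 : q < 1335
  · exact rangeB_spec steps_ok4 q (by omega) (by omega)
  by_cases h5 : q < 1602
  · exact rangeB_spec steps_ok5 q (by omega) (by omega)
  by_cases h6 : q < 1869
  · exact rangeB_spec steps_ok6 q (by omega) (by omega)
  by_cases h7 : q < 2136
  · exact rangeB_spec steps_ok7 q (by omega) (by omega)
  by_cases h8 : q < 2403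
  · exact rangeB_spec steps_ok8 q (by omega) (by omega)
  by_cases h9 : q < 2670
  · exact rangeB_spec steps_ok9 q (by omega) (by omega)
  by_cases h10 : q < 2937
  · exact rangeB_spec steps_ok10 q (by omega) (by omega)
  by_cases h11 : q < 3204
  · exact rangeB_spec steps_ok11 q (by omega) (by omega)
  by_cases h12 : q < 3471
  · exact rangeB_spec steps_ok12 q (by omega) (by omega)
  by_cases h13 : q < 3738
  · exact rangeB_spec steps_ok13 q (by omega) (by omega)
  by_cases h14 : q < 4005
  · exact rangeB_spec steps_ok14 q (by omega) (by omega)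
  exact rangeB_spec steps_ok15 q (by omega) (by omega)

/-- nodeGens by the number of the coset -/
def nodeGens : ℕ → List (List ℕ × List (ℕ × Bool))
  | 1 => chG1
  | 2 => chG2
  | 3 => chG3
  | 4 => chG4
  | 5 => chG5
  | 6 => chG6
  | 7 => chG7
  | 8 => chG8
  | 9 => chG9
  | 10 => chG10
  | _ => []

/-- nodeChain by the number of the coset -/
def nodeChain : ℕ → List Level
  | 1 => chain1
  | 2 => chain2
  | 3 => chain3
  | 4 => chain4
  | 5 => chain5
  | 6 => chain6
  | 7 => chain7
  | 8 => chain8
  | 9 => chain9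
  | 10 => chain10
  | _ => []

/-- the derivation with its checks -/
noncomputable def thDeriv : ThDeriv where
  D := deriv
  N := numItems
  tokW := rfl
  imgW := rfl
  forms := rfl
  uW := rfl
  words := words_ok
  steps := steps_all
  par_zero := rfl

/-- the checked cover -/
noncomputable def thCover : ThCover where
  R := thDeriv
  cover j h1 h2 := by
    interval_cases j
    · exact ⟨⟨covG1, covR1, covE1, covM1, covAll, cov_gens1, cov_roots1, cov_run1, all_full⟩⟩
    · exact ⟨⟨covG2, covR2, covE2, covM2, covAll, cov_gens2, cov_roots2, cov_run2, all_full⟩⟩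
    · exact ⟨⟨covG3, covR3, covE3, covM3, covAll, cov_gens3, cov_roots3, cov_run3, all_full⟩⟩
    · exact ⟨⟨covG4, covR4, covE4, covM4, covAll, cov_gens4, cov_roots4, cov_run4, all_full⟩⟩
    · exact ⟨⟨covG5, covR5, covE5, covM5, covAll, cov_gens5, cov_roots5, cov_run5, all_full⟩⟩
    · exact ⟨⟨covG6, covR6, covE6, covM6, covAll, cov_gens6, cov_roots6, cov_run6, all_full⟩⟩
    · exact ⟨⟨covG7, covR7, covE7, covM7, covAll, cov_gens7, cov_roots7, cov_run7, all_full⟩⟩
    · exact ⟨⟨covG8, covR8, covE8, covM8, covAll, cov_gens8, cov_roots8, cov_run8, all_full⟩⟩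
    · exact ⟨⟨covG9, covR9, covE9, covM9, covAll, cov_gens9, cov_roots9, cov_run9, all_full⟩⟩
    · exact ⟨⟨covG10, covR10, covE10, covM10, covAll, cov_gens10, cov_roots10, cov_run10, all_full⟩⟩
  gl := nodeGens
  lev := nodeChain
  gens j h1 h2 := by
    interval_cases j
    · exact ch_gens1
    · exact ch_gens2
    · exact ch_gens3
    · exact ch_gens4
    · exact ch_gens5
    · exact ch_gens6
    · exact ch_gens7
    · exact ch_gens8
    · exact ch_gens9
    · exact ch_gens10
  lev_gens j h1 h2 := by
    interval_cases j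
    · exact ch_all1
    · exact ch_all2
    · exact ch_all3
    · exact ch_all4
    · exact ch_all5
    · exact ch_all6
    · exact ch_all7
    · exact ch_all8
    · exact ch_all9
    · exact ch_all10
  lev_ok j h1 h2 := by
    interval_cases j
    · exact chain_ok1
    · exact chain_ok2
    · exact chain_ok3
    · exact chain_ok4
    · exact chain_ok5
    · exact chain_ok6
    · exact chain_ok7
    · exact chain_ok8
    · exact chain_ok9
    · exact chain_ok10
  lev_len j h1 h2 := by
    interval_cases j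
    · exact chain_len1.symm ▸ dvd_rfl
    · exact chain_len2.symm ▸ dvd_rfl
    · exact chain_len3.symm ▸ dvd_rfl
    · exact chain_len4.symm ▸ dvd_rfl
    · exact chain_len5.symm ▸ dvd_rfl
    · exact chain_len6.symm ▸ dvd_rfl
    · exact chain_len7.symm ▸ dvd_rfl
    · exact chain_len8.symm ▸ dvd_rfl
    · exact chain_len9.symm ▸ dvd_rfl
    · exact chain_len10.symm ▸ dvd_rfl
  trans := ⟨allLetters, transE, covAll, trans_run, all_count⟩
  tok_fix := tok_fix_ok
  tokLev := tokChain
  tokA := tokA
  tok_sub := tok_sub_ok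
  tok_ok := tok_chain_ok
  tok_len := tok_chain_len.symm ▸ dvd_rfl

end Cfsg.Agent.Lib.Th23
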