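import Cfsg.Agent.Lib.Th23.Cert

/-!
The generators of the stabiliser chains of the cover lie in the groups of the generators that
were used to cover the points.
-/

set_option autoImplicit false
set_option maxRecDepth 100000

namespace Cfsg.Agent.Lib.Th23

open Cfsg.Agent.Lib.ThK83 (Kbar)
open Cfsg.Agent.Lib.LyDC (band forallB band_eq forallB_iff bltN_iff nth hold)

/-- the covering generators by the number of the coset -/
def nodeCov : ℕ → List (List ℕ × List (ℕ × Bool))
  | 1 => covG1
  | 2 => covG2
  | 3 => covG3
  | 4 => covG4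
  | 5 => covG5
  | 6 => covG6
  | 7 => covG7
  | 8 => covG8
  | 9 => covG9
  | 10 => covG10
  | _ => []

/-- some word of the list moves the base as `u` does -/
noncomputable def hasW (P : Pts) (gl : List (List Nat)) (u : List Nat) : Bool :=
  List.rec (motive := fun _ => Bool) false
    (fun w _ ih => Bool.rec (motive := fun _ => Bool) ih true (P.eqW w u)) gl

theorem hasW_iff {P : Pts} {gl : List (List ℕ)} {u : List ℕ} :
    hasW P gl u = true ↔ ∃ w ∈ gl, P.eqW w u = true := by
  induction gl with
  | nil => simp [hasW]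
  | cons w l ih =>
    show Bool.rec (motive := fun _ => Bool) (hasW P l u) true (P.eqW w u) = true ↔ _
    cases h : P.eqW w u <;> simp [h, ih]

/-- every stabiliser in a path is one of the listed generators or the inverse of one -/
noncomputable def pathsIn (D : Deriv) (P : Pts) (cov g : List (List Nat × List (Nat × Bool))) :
    Bool :=
  forallB (fun e => band (P.eqW e.1 (D.stabW e.2)) (forallB (fun s =>
    band (hasW P (fstL cov) (D.item s.1).h)
      (P.eqW ((D.item s.1).h ++ (D.item s.1).hi) [])) e.2)) g

theorem pathsIn_le {D : Deriv} {cov g : List (List ℕ × List (ℕ × Bool))}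
    (h : pathsIn D (kPts ThK83.base) cov g = true) :
    kM.wordGroup (fstL g) ≤ kM.wordGroup (fstL cov) := by
  refine kM.wordGroup_le fun w hw => ?_
  obtain ⟨s, hs⟩ := mem_fstL.1 hw
  have h' := forallB_iff.1 h _ hs
  rw [band_eq, Bool.and_eq_true] at h'
  rw [kM.eq_of_eqW h'.1]
  have hp := h'.2
  clear h' hs hw h
  induction s with
  | nil =>
    show kM.ev [] ∈ _
    rw [kM.ev_nil]; exact one_mem _
  | cons e s ih =>
    rw [forallB_iff] at hp
    have he := hp e (List.mem_cons_self ..)
    rw [band_eq, Bool.and_eq_true, hasW_iff] at he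
    obtain ⟨⟨v, hv, hveq⟩, hinv⟩ := he
    have ih' := ih (forallB_iff.2 fun x hx => hp x (List.mem_cons_of_mem _ hx))
    have hh : kM.ev (D.item e.1).h ∈ kM.wordGroup (fstL cov) := by
      rw [← kM.eq_of_eqW hveq]; exact kM.word_mem hv
    obtain ⟨k, b⟩ := e
    cases b
    · show kM.ev ((D.item k).h ++ D.stabW s) ∈ _
      rw [kM.ev_append]; exact mul_mem hh ih'
    · show kM.ev ((D.item k).hi ++ D.stabW s) ∈ _
      have e2 := kM.eq_of_eqW hinv
      rw [kM.ev_append, kM.ev_nil] at e2
      rw [kM.ev_append, eq_inv_of_mul_eq_one_right e2]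
      exact mul_mem (inv_mem hh) ih'

theorem paths1 : pathsIn deriv (kPts ThK83.base) covG1 chG1 = true := by decide +kernel

theorem paths2 : pathsIn deriv (kPts ThK83.base) covG2 chG2 = true := by decide +kernel

theorem paths3 : pathsIn deriv (kPts ThK83.base) covG3 chG3 = true := by decide +kernel

theorem paths4 : pathsIn deriv (kPts ThK83.base) covG4 chG4 = true := by decide +kernel

theorem paths5 : pathsIn deriv (kPts ThK83.base) covG5 chG5 = true := by decide +kernel

theorem paths6 : pathsIn deriv (kPts ThK83.base) covG6 chG6 = true := by decide +kernel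

theorem paths7 : pathsIn deriv (kPts ThK83.base) covG7 chG7 = true := by decide +kernel

theorem paths8 : pathsIn deriv (kPts ThK83.base) covG8 chG8 = true := by decide +kernel

theorem paths9 : pathsIn deriv (kPts ThK83.base) covG9 chG9 = true := by decide +kernel

theorem paths10 : pathsIn deriv (kPts ThK83.base) covG10 chG10 = true := by decide +kernel

/-- the covering generators stabilise their coset and generate the chain generators -/
theorem cov_spec : ∀ j, 1 ≤ j → j < 11 →
    thCover.R.D.gensOK (kPts ThK83.base) thCover.R.N j (nodeCov j) = true ∧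
      kM.wordGroup (fstL (thCover.gl j)) ≤ kM.wordGroup (fstL (nodeCov j)) := by
  intro j h1 h2
  interval_cases j
  · exact ⟨cov_gens1, pathsIn_le paths1⟩
  · exact ⟨cov_gens2, pathsIn_le paths2⟩
  · exact ⟨cov_gens3, pathsIn_le paths3⟩
  · exact ⟨cov_gens4, pathsIn_le paths4⟩
  · exact ⟨cov_gens5, pathsIn_le paths5⟩
  · exact ⟨cov_gens6, pathsIn_le paths6⟩
  · exact ⟨cov_gens7, pathsIn_le paths7⟩
  · exact ⟨cov_gens8, pathsIn_le paths8⟩
  · exact ⟨cov_gens9, pathsIn_le paths9⟩
  · exact ⟨cov_gens10, pathsIn_le paths10⟩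

end Cfsg.Agent.Lib.Th23
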