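import Cfsg.Agent.Lib.Th23.Orbit

/-!
Stabiliser chains of groups generated by listed words: the product of the orbit lengths divides
the order.
-/

set_option autoImplicit false

namespace Cfsg.Agent.Lib.Th23

open Cfsg.Agent.Lib.LyDC (hold band forallB rangeB nth eqLN memN hold_eq band_eq forallB_iff
  rangeB_spec beqN_iff bltN_iff bleN_iff eqLN_iff nth_eq memN_iff)

namespace Model

variable {P : Pts} {Q : Type*} [Group Q] (M : Model P Q)

/-- the subgroup of `Q` generated by listed words -/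
noncomputable def wordGroup (gl : List (List ℕ)) : Subgroup Q :=
  Subgroup.closure {g | ∃ w ∈ gl, g = M.ev w}

theorem word_mem {gl : List (List ℕ)} {w : List ℕ} (hw : w ∈ gl) : M.ev w ∈ M.wordGroup gl :=
  Subgroup.subset_closure (show M.ev w ∈ {g : Q | ∃ w ∈ gl, g = M.ev w} from ⟨w, hw, rfl⟩)

theorem wordGroup_le {gl : List (List ℕ)} {S : Subgroup Q} (h : ∀ w ∈ gl, M.ev w ∈ S) :
    M.wordGroup gl ≤ S := by
  refine (Subgroup.closure_le _).2 ?_
  rintro _ ⟨w, hw, rfl⟩
  exact h w hw

/-- the orbit length times the stabiliser is the order -/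
theorem orbit_mul_eq [Finite Q] {gl gr : List (List ℕ)} {cs : List ℕ} {m₀ m₁ b n : ℕ} (hb : b < P.n)
    (hsub : ∀ w ∈ gr, w ∈ gl) (hr : orbRun P gr cs m₀ m₁ = true) (h₀ : m₀ = 1 <<< b) (hn : countBits P m₁ = n)
    (hbit : hasBit m₁ b = true) (hc : closedOK P gl m₁ = true) :
    n * Nat.card ↥(M.wordGroup gl ⊓ M.fixList [b]) = Nat.card (M.wordGroup gl) := by
  set S := M.wordGroup gl with hS
  refine le_antisymm (orbit_mul_le M S (fun g hg => M.word_mem (hsub g hg)) hr h₀ hn) ?_
  have hclosed : ∀ s ∈ S, ∀ p < P.n, hasBit m₁ p = true → hasBit m₁ (M.pt s p) = true := by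
    intro s hs
    have hs' : s ∈ Submonoid.closure {g : Q | ∃ w ∈ gl, g = M.ev w} := by
      rw [← Subgroup.closure_toSubmonoid_of_finite]; exact hs
    clear hs
    induction hs' using Submonoid.closure_induction with
    | mem x hx =>
      obtain ⟨w, hw, rfl⟩ := hx
      intro p hp hm
      have h := rangeB_spec hc p (Nat.zero_le _) (by omega)
      rw [hm] at h
      have h' := forallB_iff.1 h w hw
      rw [hold_eq, M.go_eq _ _ hp] at h'
      exact h'
    | one => intro p _ hm; rwa [M.pt_one]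
    | mul x y _ _ hx hy =>
      intro p hp hm
      rw [M.pt_mul]
      exact hy _ (M.pt_lt _ _ hp) (hx p hp hm)
  set F := (Finset.range P.n).filter fun p => hasBit m₁ p = true with hF
  have hch : ∀ s : S, M.pt s.1 b ∈ F := fun s =>
    Finset.mem_filter.2 ⟨Finset.mem_range.2 (M.pt_lt _ _ hb), hclosed _ s.2 b hb hbit⟩
  have horb : ∀ p : F, ∃ s ∈ S, M.pt s b = p := fun p => by
    refine orbRun_sound M (passes_orbit M S (fun g hg => M.word_mem (hsub g hg)) b) cs m₀ m₁ hr
      (fun q hq => ?_) p (Finset.mem_filter.1 p.2).2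
    rw [h₀, hasBit_single] at hq
    exact ⟨1, one_mem _, by rw [hq, M.pt_one]⟩
  choose t htS htb using horb
  let f : S → F × ↥(S ⊓ M.fixList [b]) := fun s =>
    ⟨⟨_, hch s⟩, ⟨s.1 * (t ⟨_, hch s⟩)⁻¹, S.mul_mem s.2 (S.inv_mem (htS _)), fun p hp => by
      rw [List.mem_singleton.1 hp, M.pt_mul]
      exact M.pt_inv (htb ⟨_, hch s⟩)⟩⟩
  have hf : Function.Injective f := by
    intro s s' e
    have e1 : (⟨M.pt s.1 b, hch s⟩ : F) = ⟨M.pt s'.1 b, hch s'⟩ := congrArg Prod.fst e
    have e2 : s.1 * (t ⟨_, hch s⟩)⁻¹ = s'.1 * (t ⟨_, hch s'⟩)⁻¹ :=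
      congrArg (fun x : F × ↥(S ⊓ M.fixList [b]) => (x.2 : Q)) e
    rw [e1] at e2
    exact Subtype.ext (mul_right_cancel e2)
  have := Nat.card_le_card_of_injective f hf
  rwa [Nat.card_prod, Nat.card_eq_finsetCard, ← countBits_eq, hn] at this

theorem wordGroup_mono {gl gl' : List (List ℕ)} (h : ∀ w ∈ gl', w ∈ gl) :
    M.wordGroup gl' ≤ M.wordGroup gl :=
  M.wordGroup_le fun w hw => M.word_mem (h w hw)

end Model

/-- all levels of a chain are right -/
def ChainOK (P : Pts) : List Level → Prop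
  | [] => True
  | l :: L => l.ok P (allGens (l :: L)) (allGens L) = true ∧ ChainOK P L

/-- the product of the orbit lengths -/
def chainLen : List Level → ℕ
  | [] => 1
  | l :: L => l.len * chainLen L

/-- the product of the orbit lengths divides the order of the group of the generators -/
theorem chain_dvd {P : Pts} {Q : Type*} [Group Q] [Finite Q] (M : Model P Q) :
    ∀ {L : List Level}, ChainOK P L → chainLen L ∣ Nat.card (M.wordGroup (allGens L))
  | [], _ => one_dvd _
  | l :: L, h => by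
    obtain ⟨h1, h2⟩ := h
    simp only [Level.ok, band_eq, Bool.and_eq_true, beqN_iff, bltN_iff] at h1
    obtain ⟨hb, hr, hn, hbit, hcl, hfix⟩ := h1
    have e : allGens (l :: L) = l.gl ++ allGens L := rfl
    rw [← M.orbit_mul_eq hb (fun _ hw => hw) hr (show _ = 1 <<< l.b from rfl) hn hbit hcl]
    refine Nat.mul_dvd_mul_left _ ((chain_dvd M h2).trans (Subgroup.card_dvd_of_le
      (M.wordGroup_le fun w hw => ⟨M.word_mem ?_, fix_spec M (by simpa using hb) hfix w hw⟩)))
    rw [e]
    exact List.mem_append_right _ hw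

end Cfsg.Agent.Lib.Th23
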