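import Cfsg.Agent.Lib.Th23.DerivData
import Cfsg.Agent.Lib.Th23.OrbitData
import Cfsg.Agent.Lib.Th23.KPts
import Cfsg.Agent.Lib.ThK83.OrbData
import Cfsg.Agent.Lib.Th23.CheckNode7

/-! Words of the derivation, tokens and transitivity. -/

set_option maxRecDepth 100000
set_option maxHeartbeats 0

namespace Cfsg.Agent.Lib.Th23

open Cfsg.Agent.Lib.LyDC (rangeB band forallB nth)

theorem words_ok : deriv.wordsOK (kPts ThK83.base) = true := by decide +kernel

theorem tok_fix_ok : fixOK (kPts ThK83.base) thTokW [0] = true := by decide +kernel

theorem tok_sub_ok : rangeB (fun i => band (forallB (fun x => Nat.blt x 14) (nth [] tokA i))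
    (((kPts ThK83.base)).eqW (nth [] (allGens tokChain) i) (catW thTokW (nth [] tokA i))))
      (allGens tokChain).length 0 = true := by decide +kernel

theorem trans_run : orbRun (kPts ThK83.base) allLetters transE 1 covAll = true := by decide +kernel

theorem all_count : countBits (kPts ThK83.base) covAll = 17199 := by decide +kernel

theorem all_full : fullMask (kPts ThK83.base) covAll = true := by decide +kernel

end Cfsg.Agent.Lib.Th23
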