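import Cfsg.Agent.Lib.Th23.Chain

/-!
Double cosets `Q W_j Q`, `j < m`, that absorb multiplication by `u` cover the group, and the
stabilisers of their cosets bound the index of the image of `Q`.
-/

set_option autoImplicit false

namespace Cfsg.Agent.Lib.Th23

open Cfsg.Agent.Lib.LyDC (hold band forallB rangeB nth eqLN memN hold_eq band_eq forallB_iff
  rangeB_spec beqN_iff bltN_iff bleN_iff eqLN_iff nth_eq memN_iff)

variable {P : Pts} {Q : Type*} [Group Q]

/-- the items are checked in blocks -/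
theorem steps_of_blocks {P : Pts} {D : Deriv} {len n : ℕ} (hlen : 0 < len)
    (h : ∀ c < n, rangeB (D.stepOK P) len (len * c) = true) :
    ∀ q < len * n, D.stepOK P q = true := fun q hq =>
  rangeB_spec (h (q / len) ((Nat.div_lt_iff_lt_mul hlen).2 (by rwa [Nat.mul_comm]))) q
    (Nat.mul_div_le q len) (by
      have h1 := Nat.div_add_mod q len
      have h2 := Nat.mod_lt q hlen
      omega)

/-- all items are checked at once -/
theorem steps_of_range {P : Pts} {D : Deriv} {n : ℕ} (h : rangeB (D.stepOK P) n 0 = true) :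
    ∀ q < n, D.stepOK P q = true := fun q hq => rangeB_spec h q (Nat.zero_le _) (by omega)

/-- a rule and the rule for the inverses -/
theorem rule_inv {G : Type*} [Group G] (φ : Q →* G) {u : G} {x y : Q}
    (h : φ x * u = u * φ y) : φ x⁻¹ * u = u * φ y⁻¹ := by
  rw [map_inv, map_inv, inv_mul_eq_iff_eq_mul, ← mul_assoc, h, mul_inv_cancel_right]

namespace Model

variable (M : Model P Q)

/-- the group of the tokens of a derivation -/
noncomputable def tokGroup (D : Deriv) : Subgroup Q := M.wordGroup D.tokW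

/-- if the tokens fix the point `0` and generate enough, they give its whole stabiliser -/
theorem fix_zero_le_tok [Finite Q] (D : Deriv) (h0 : 0 < P.n) (hfix : fixOK P D.tokW [0] = true)
    {gl : List (List ℕ)} {cs : List ℕ} {m₀ m₁ c : ℕ} (hr : orbRun P gl cs m₀ m₁ = true)
    (h₀ : m₀ = 1) (hn : countBits P m₁ = P.n) (hQ : Nat.card Q ≤ P.n * c)
    (hc : c ≤ Nat.card (M.tokGroup D)) : M.fixList [0] ≤ M.tokGroup D := by
  have h := orbit_mul_le M (b := 0) ⊤ (fun g _ => Subgroup.mem_top _) hr (by rw [h₀]; rfl) hn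
  rw [top_inf_eq, Subgroup.card_top] at h
  have hle : M.tokGroup D ≤ M.fixList [0] :=
    M.wordGroup_le fun w hw => fix_spec M (by simpa using h0) hfix w hw
  refine (Subgroup.eq_of_le_of_card_ge hle (le_trans ?_ hc)).ge
  exact Nat.le_of_mul_le_mul_left (h.trans hQ) h0

end Model

variable {M : Model P Q} {D : Deriv} {G : Type*} [Group G]

/-- the data that let the double coset of `W_j` absorb `u` -/
structure CoverData (P : Pts) (D : Deriv) (N m j : ℕ) where
  gl : List (List ℕ × List (ℕ × Bool))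
  rl : List (ℕ × ℕ)
  cs : List ℕ
  m₀ : ℕ
  m₁ : ℕ
  gens : D.gensOK P N j gl = true
  roots : D.rootsOK P N j m rl m₀ = true
  run : orbRun P (fstL gl) cs m₀ m₁ = true
  full : fullMask P m₁ = true

namespace Ctx

variable (C : Ctx M D G)

/-- the stabiliser of the coset of `W j` -/
noncomputable def S (j : ℕ) : Subgroup Q where
  carrier := {s | C.Eqv (C.W j * C.φ s) (C.W j)}
  one_mem' := by simp [Eqv.refl]
  mul_mem' {a b} ha hb := by
    show C.Eqv (C.W j * C.φ (a * b)) (C.W j)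
    rw [map_mul, ← mul_assoc]
    exact (ha.mul_right _).trans hb
  inv_mem' {a} ha := by
    show C.Eqv (C.W j * C.φ a⁻¹) (C.W j)
    have := (ha.mul_right (C.φ a)⁻¹).symm
    rw [mul_inv_cancel_right] at this
    rwa [map_inv]

theorem W_zero : C.W 0 = 1 := by rw [W]

theorem S_zero : C.S 0 = ⊤ := by
  refine eq_top_iff.2 fun s _ => ?_
  show C.W 0 * C.φ s * (C.W 0)⁻¹ ∈ C.φ.range
  simp [W_zero]

theorem gens_mem {j : ℕ} {gl : List (List ℕ × List (ℕ × Bool))}
    (h : D.gensOK P C.N j gl = true) : ∀ g ∈ fstL gl, M.ev g ∈ C.S j := by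
  intro g hg
  obtain ⟨s, hs⟩ := mem_fstL.1 hg
  have h' := forallB_iff.1 h _ hs
  rw [band_eq, Bool.and_eq_true] at h'
  show C.Eqv (C.W j * C.hv g) (C.W j)
  rw [C.hv_eq h'.2]
  exact C.stabs_hold h'.1

theorem img_le_S : M.wordGroup D.imgW ≤ C.S 1 := by
  refine M.wordGroup_le fun w hw => ?_
  obtain ⟨k, hk, rfl⟩ := List.getElem_of_mem hw
  show C.W 1 * C.φ (M.ev D.imgW[k]) * (C.W 1)⁻¹ ∈ C.φ.range
  rw [C.W_one]
  rw [← List.getD_eq_getElem _ [] hk, ← nth_eq, ← C.tok k (lt_of_lt_of_le hk C.len_le),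
    mul_inv_cancel_right]
  exact ⟨_, rfl⟩

theorem tok_push (x : Q) (hx : x ∈ M.tokGroup D) : ∃ y, C.φ x * C.u = C.u * C.φ y := by
  induction hx using Subgroup.closure_induction with
  | mem x hx =>
    obtain ⟨w, hw, rfl⟩ := hx
    obtain ⟨k, hk, rfl⟩ := List.getElem_of_mem hw
    exact ⟨M.ev (nth [] D.imgW k), by
      rw [← List.getD_eq_getElem _ [] hk, ← nth_eq]; exact C.tok k hk⟩
  | one => exact ⟨1, by simp⟩
  | mul x x' _ _ hx hx' =>
    obtain ⟨y, hy⟩ := hx
    obtain ⟨y', hy'⟩ := hx'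
    exact ⟨y * y', by rw [map_mul, map_mul, mul_assoc, hy', ← mul_assoc, hy, mul_assoc]⟩
  | inv x _ hx =>
    obtain ⟨y, hy⟩ := hx
    refine ⟨y⁻¹, ?_⟩
    rw [map_inv, map_inv, inv_mul_eq_iff_eq_mul, ← mul_assoc, hy, mul_inv_cancel_right]

/-- a coset that is one of the `m` kinds -/
def Reach (m : ℕ) (g : G) : Prop := ∃ j < m, ∃ h : Q, C.Eqv g (C.W j * C.φ h)

variable {m : ℕ}

theorem cover_step (h0 : 0 < P.n) (hT : M.fixList [0] ≤ M.tokGroup D) {j : ℕ}
    (E : CoverData P D C.N m j) (h : Q) : C.Reach m (C.W j * C.φ h * C.u) := by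
  obtain ⟨gl, rl, cs, m₀, m₁, hg, hr, hrun, hf⟩ := E
  rw [Deriv.rootsOK, band_eq, Bool.and_eq_true, forallB_iff, beqN_iff] at hr
  obtain ⟨hroots, hm₀⟩ := hr
  let Pr : ℕ → Prop := fun p => ∃ e ∈ rl, ∃ s ∈ C.S j, M.pt s e.2 = p
  have hP : Passes M (fstL gl) Pr := by
    rintro g hg' x - ⟨e, he, s, hs, rfl⟩
    exact ⟨e, he, s * M.ev g, mul_mem hs (C.gens_mem hg g hg'), M.pt_mul _ _ _⟩
  have hstart : ∀ p, hasBit m₀ p = true → Pr p := by
    subst hm₀
    clear hroots hrun
    intro p hp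
    suffices ∃ e ∈ rl, e.2 = p by
      obtain ⟨e, he, rfl⟩ := this
      exact ⟨e, he, 1, one_mem _, M.pt_one _⟩
    clear hP Pr
    induction rl with
    | nil =>
      rw [hasBit_iff] at hp
      simp at hp
    | cons e l ih =>
      have hp' : hasBit (Nat.lor (Nat.shiftLeft 1 e.2) (List.rec (motive := fun _ => ℕ) 0
          (fun e _ ih => Nat.lor (Nat.shiftLeft 1 e.2) ih) l)) p = true := hp
      rw [show ∀ a b : ℕ, Nat.lor a b = Nat.lor b a from Nat.or_comm, hasBit_set] at hp'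
      rcases hp' with hp' | hp'
      · exact ⟨e, List.mem_cons_self .., hp'.symm⟩
      · obtain ⟨e', he', rfl⟩ := ih hp'
        exact ⟨e', List.mem_cons_of_mem _ he', rfl⟩
  obtain ⟨e, he, s, hs, hse⟩ := orbRun_sound M hP _ _ _ hrun hstart (M.pt h⁻¹ 0)
    (fullMask_spec hf _ (M.pt_lt _ _ h0))
  have h1 := hroots e he
  simp only [band_eq, Bool.and_eq_true, beqN_iff, bltN_iff] at h1
  obtain ⟨hk, hst, hjm, hi, hx, hgo⟩ := h1
  have hst' := bnot_iff.1 hst
  rw [M.go_eq _ _ hx] at hgo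
  have hl : (M.ev (D.item e.1).h)⁻¹ * (s * h) ∈ M.tokGroup D := by
    refine hT fun p hp => ?_
    rw [List.mem_singleton] at hp
    subst hp
    rw [M.pt_mul, M.pt_inv hgo, M.pt_mul, hse]
    have := M.pt_inv (g := h⁻¹) (p := 0) rfl
    rwa [inv_inv] at this
  obtain ⟨y, hy⟩ := C.tok_push _ hl
  have he' := (C.holds_edge hst').1 (C.holds_all e.1 hk)
  rw [hi] at he'
  refine ⟨_, hjm, M.ev (D.item e.1).g * y, ?_⟩
  have h2 : C.Eqv (C.W j * C.φ h * C.u) (C.W j * C.φ (s * h) * C.u) := by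
    have := (hs.symm.mul_right (C.φ h)).mul_right C.u
    simpa [mul_assoc] using this
  refine h2.trans ?_
  have e2 : C.W j * C.φ (s * h) * C.u =
      C.W j * C.hv (D.item e.1).h * C.u * C.φ y := by
    conv_lhs => rw [← mul_inv_cancel_left (M.ev (D.item e.1).h) (s * h), map_mul]
    simp only [mul_assoc, hy, hv]
  rw [e2, map_mul, ← mul_assoc]
  exact he'.mul_right _

/-- all double cosets of the `m` kinds absorb `u` -/
structure Covered (C : Ctx M D G) (m : ℕ) : Prop where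
  two_le : 2 ≤ m
  pos : 0 < P.n
  fix_le : M.fixList [0] ≤ M.tokGroup D
  cover : ∀ j, 1 ≤ j → j < m → Nonempty (CoverData P D C.N m j)
  gen : Subgroup.closure ((C.φ.range : Set G) ∪ {C.u}) = ⊤

variable {C}

theorem Covered.reach_u (K : C.Covered m) {g : G} (hg : C.Reach m g) : C.Reach m (g * C.u) := by
  obtain ⟨j, hj, h, e⟩ := hg
  have key : C.Reach m (C.W j * C.φ h * C.u) := by
    rcases Nat.eq_zero_or_pos j with rfl | hj1
    · refine ⟨1, K.two_le, 1, ?_⟩
      rw [C.W_one, map_one, mul_one]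
      show C.W 0 * C.φ h * C.u * C.u⁻¹ ∈ C.φ.range
      simp [W_zero]
    · obtain ⟨E⟩ := K.cover j hj1 hj
      exact C.cover_step K.pos K.fix_le E h
  obtain ⟨k, hk, x, hx⟩ := key
  exact ⟨k, hk, x, (e.mul_right C.u).trans hx⟩

theorem reach_mul {g : G} (hg : C.Reach m g) (x : Q) : C.Reach m (g * C.φ x) := by
  obtain ⟨j, hj, h, e⟩ := hg
  refine ⟨j, hj, h * x, ?_⟩
  rw [map_mul, ← mul_assoc]
  exact e.mul_right _

/-- the double cosets cover the group -/
theorem Covered.reach_all (K : C.Covered m) (g : G) : C.Reach m g := by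
  have hu : C.u⁻¹ = C.φ (M.ev D.uI) * C.u := by
    rw [show C.φ (M.ev D.uI) = (C.u * C.u)⁻¹ from C.hv_uI]
    simp
  have step : ∀ y ∈ Subgroup.closure ((C.φ.range : Set G) ∪ {C.u}),
      ∀ a, C.Reach m a → C.Reach m (a * y) ∧ C.Reach m (a * y⁻¹) := by
    intro y hy
    induction hy using Subgroup.closure_induction with
    | mem y hy =>
      intro a ha
      rcases hy with ⟨x, rfl⟩ | hy
      · exact ⟨reach_mul ha x, by rw [← map_inv]; exact reach_mul ha _⟩
      · rw [Set.mem_singleton_iff.1 hy, hu, ← mul_assoc]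
        exact ⟨K.reach_u ha, K.reach_u (reach_mul ha _)⟩
    | one => intro a ha; simpa using ha
    | mul x y _ _ hx hy =>
      intro a ha
      rw [mul_inv_rev, ← mul_assoc, ← mul_assoc]
      exact ⟨(hy _ (hx a ha).1).1, (hx _ (hy a ha).2).2⟩
    | inv x _ hx => intro a ha; rw [inv_inv]; exact (hx a ha).symm
  have h1 : C.Reach m 1 := ⟨0, lt_of_lt_of_le zero_lt_two K.two_le, 1, by simp [W_zero, Eqv.refl]⟩
  have := (step g (K.gen ▸ Subgroup.mem_top g) 1 h1).1
  rwa [one_mul] at this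

/-- the covering, for left cosets -/
theorem Covered.cover_left (K : C.Covered m) (g : G) :
    ∃ j < m, ∃ h k : Q, g = C.φ h * (C.W j)⁻¹ * C.φ k := by
  obtain ⟨j, hj, h, hr⟩ := K.reach_all g⁻¹
  obtain ⟨k, hk⟩ := hr
  refine ⟨j, hj, h⁻¹, k⁻¹, ?_⟩
  rw [map_inv, map_inv, hk]
  group

/-- the index of the image of `Q` -/
theorem Covered.index_le [Finite Q] (K : C.Covered m) (s : ℕ → ℕ)
    (hs : ∀ j < m, 0 < s j ∧ s j ≤ Nat.card (C.S j)) :
    Finite (G ⧸ C.φ.range) ∧ C.φ.range.index ≤ ∑ j ∈ Finset.range m, Nat.card Q / s j := by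
  let f : (Σ j : Fin m, Q ⧸ C.S j) → G ⧸ C.φ.range := fun x =>
    QuotientGroup.mk (C.φ x.2.out * (C.W x.1)⁻¹)
  have hf : Function.Surjective f := by
    intro q
    induction q using QuotientGroup.induction_on with
    | _ g =>
      obtain ⟨j, hj, h, k, rfl⟩ := K.cover_left g
      refine ⟨⟨⟨j, hj⟩, QuotientGroup.mk h⟩, ?_⟩
      obtain ⟨s, hs⟩ := QuotientGroup.mk_out_eq_mul (C.S j) h
      refine QuotientGroup.eq.2 ?_
      show (C.φ (QuotientGroup.mk h : Q ⧸ C.S j).out * (C.W j)⁻¹)⁻¹ *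
        (C.φ h * (C.W j)⁻¹ * C.φ k) ∈ C.φ.range
      obtain ⟨r, hr⟩ := (s⁻¹).2
      have e : C.φ (s⁻¹ : C.S j).1 = (C.W j)⁻¹ * (C.φ r * C.W j) := by
        rw [hr]; group
      refine ⟨r * k, ?_⟩
      rw [hs]
      simp only [map_mul]
      rw [Subgroup.coe_inv, map_inv, inv_eq_iff_eq_inv] at e
      rw [e]; simp [mul_assoc]
  refine ⟨Finite.of_surjective f hf, ?_⟩
  calc C.φ.range.index = Nat.card (G ⧸ C.φ.range) := rfl
    _ ≤ Nat.card (Σ j : Fin m, Q ⧸ C.S j) := Nat.card_le_card_of_surjective f hf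
    _ = ∑ j : Fin m, Nat.card (Q ⧸ C.S j) := Nat.card_sigma
    _ ≤ ∑ j : Fin m, Nat.card Q / s j := Finset.sum_le_sum fun j _ => by
      rw [Nat.le_div_iff_mul_le (hs j j.2).1,
        Subgroup.card_eq_card_quotient_mul_card_subgroup (C.S j)]
      exact Nat.mul_le_mul_left _ (hs j j.2).2
    _ = _ := Fin.sum_univ_eq_sum_range (fun j => Nat.card Q / s j) m

/-- the order of the group -/
theorem Covered.card_le [Finite Q] (K : C.Covered m) (s : ℕ → ℕ)
    (hs : ∀ j < m, 0 < s j ∧ s j ≤ Nat.card (C.S j)) :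
    Finite G ∧ Nat.card G ≤ (∑ j ∈ Finset.range m, Nat.card Q / s j) * Nat.card Q := by
  obtain ⟨hfin, hi⟩ := K.index_le s hs
  have : Finite C.φ.range := Finite.of_surjective C.φ.rangeRestrict C.φ.rangeRestrict_surjective
  have hG : Finite G :=
    Finite.of_equiv _ (Subgroup.groupEquivQuotientProdSubgroup (s := C.φ.range)).symm
  refine ⟨hG, ?_⟩
  have h1 : Nat.card C.φ.range ≤ Nat.card Q :=
    Nat.card_le_card_of_surjective C.φ.rangeRestrict C.φ.rangeRestrict_surjective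
  rw [← C.φ.range.index_mul_card]
  exact Nat.mul_le_mul hi h1

variable (C)

/-- a chain of stabiliser generators divides the order of the stabiliser of a coset -/
theorem stab_dvd [Finite Q] {j : ℕ} {gl : List (List ℕ × List (ℕ × Bool))} {L : List Level}
    (hg : D.gensOK P C.N j gl = true) (hL : allGens L = fstL gl) (h : ChainOK P L) :
    chainLen L ∣ Nat.card (C.S j) := by
  refine (chain_dvd M h).trans (Subgroup.card_dvd_of_le (M.wordGroup_le fun w hw => ?_))
  exact C.gens_mem hg w (hL ▸ hw)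

end Ctx

end Cfsg.Agent.Lib.Th23
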