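import Cfsg.Agent.Lib.Th23.FromRel

/-!
The context of a derivation with the Thompson data, from the relators and the seventh rule.
-/

set_option autoImplicit false

namespace Cfsg.Agent.Lib.Th23

open Cfsg.Agent.Lib.ThK83 (Kbar rep)
open Cfsg.Agent.Lib.LyDC (nth)

variable {G : Type*} [Group G] {idx : List ℕ} {A B C D E S T U : G} {φ : Kbar →* G}

/-- a derivation with the Thompson tokens, forms and words for `u`, all steps checked -/
structure ThDeriv where
  D : Deriv
  N : ℕ
  tokW : D.tokW = thTokW
  imgW : D.imgW = thImgW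
  forms : D.forms = thForms
  uW : D.uW = thUW
  words : D.wordsOK (kPts ThK83.base) = true
  steps : ∀ q < N, D.stepOK (kPts ThK83.base) q = true
  par_zero : nth (0, []) D.par 0 = (0, [])

/-- the context -/
noncomputable def ctxOf (R : ThDeriv) (m : KMaps φ A B C D E S T)
    (h : RelsHold idx A B C D E S T U) (hi : ∀ i ∈ dcIdx, i ∈ idx) (h7 : Seventh φ U) :
    Ctx kM R.D G where
  φ := φ
  u := U
  tok k hk := by
    rw [R.tokW, R.imgW]
    exact all_tok m h hi h7 k (R.tokW ▸ hk)
  uu := by rw [R.uW]; exact uu_eq m h hi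
  rel F hF := forms_eq m h hi F (R.forms ▸ hF)
  N := R.N
  words := R.words
  steps := R.steps
  len_le := by rw [R.tokW, R.imgW]; decide
  par_zero := R.par_zero

theorem ctxOf_phi (R : ThDeriv) (m : KMaps φ A B C D E S T)
    (h : RelsHold idx A B C D E S T U) (hi : ∀ i ∈ dcIdx, i ∈ idx) (h7 : Seventh φ U) :
    (ctxOf R m h hi h7).φ = φ ∧ (ctxOf R m h hi h7).u = U := ⟨rfl, rfl⟩

/-- eight generators: `U` and the image of `Kbar` generate -/
theorem gen_top (m : KMaps φ A B C D E S T)
    (hgen : Subgroup.closure ({A, B, C, D, E, S, T, U} : Set G) = ⊤) :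
    Subgroup.closure ((φ.range : Set G) ∪ {U}) = ⊤ := by
  refine top_unique (hgen ▸ (Subgroup.closure_le _).2 ?_)
  rw [m.range_eq]
  intro x hx
  simp only [Set.mem_insert_iff, Set.mem_singleton_iff] at hx
  rcases hx with rfl | rfl | rfl | rfl | rfl | rfl | rfl | rfl
  iterate 7 exact Subgroup.subset_closure (Or.inl (Subgroup.subset_closure (by simp)))
  exact Subgroup.subset_closure (Or.inr rfl)

end Cfsg.Agent.Lib.Th23
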