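import Mathlib
import Cfsg.Agent.Lib.LyDC.Sound
import Cfsg.Agent.Lib.Th23.DerivK

/-!
Soundness of the derivations: the items are equations between right cosets of the image of a
group `Q` acting on the points, in any group with an element `u` satisfying the rules of the
derivation over that image.
-/

set_option autoImplicit false

namespace Cfsg.Agent.Lib.Th23

open Cfsg.Agent.Lib.LyDC (hold band forallB rangeB nth eqLN memN hold_eq band_eq forallB_iff
  rangeB_spec beqN_iff bltN_iff bleN_iff eqLN_iff nth_eq memN_iff)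

/-- words evaluated in a group acting on the points from the right, faithfully on the base -/
structure Model (P : Pts) (Q : Type*) [Group Q] where
  ev : List ℕ → Q
  pt : Q → ℕ → ℕ
  ev_nil : ev [] = 1
  ev_append : ∀ u v, ev (u ++ v) = ev u * ev v
  pt_one : ∀ p, pt 1 p = p
  pt_mul : ∀ a b p, pt (a * b) p = pt b (pt a p)
  pt_lt : ∀ g p, p < P.n → pt g p < P.n
  go_eq : ∀ u p, p < P.n → P.go u p = pt (ev u) p
  base_lt : ∀ b ∈ P.base, b < P.n
  inj : ∀ g, (∀ b ∈ P.base, pt g b = b) → g = 1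

namespace Model

variable {P : Pts} {Q : Type*} [Group Q] (M : Model P Q)

theorem pt_inv {g : Q} {p q : ℕ} (h : M.pt g p = q) : M.pt g⁻¹ q = p := by
  rw [← h, ← M.pt_mul, mul_inv_cancel, M.pt_one]

theorem mov_eq : ∀ (u s : List ℕ), (∀ p ∈ s, p < P.n) → P.mov u s = s.map (M.pt (M.ev u))
  | _, [], _ => rfl
  | u, p :: s, h => by
    show hold (P.go u p) (fun q => q :: P.mov u s) = _
    rw [hold_eq, M.go_eq u p (h p (by simp)), mov_eq u s fun q hq => h q (by simp [hq])]
    rfl

theorem eq_of_eqW {u v : List ℕ} (h : P.eqW u v = true) : M.ev u = M.ev v := by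
  have h' := eqLN_iff.1 h
  rw [M.mov_eq u _ M.base_lt, M.mov_eq v _ M.base_lt] at h'
  refine mul_inv_eq_one.1 (M.inj _ fun b hb => ?_)
  rw [M.pt_mul]
  exact M.pt_inv (List.map_inj_left.1 h' b hb).symm

/-- the elements fixing a list of points -/
def fixList (ps : List ℕ) : Subgroup Q where
  carrier := {g | ∀ p ∈ ps, M.pt g p = p}
  one_mem' := fun p _ => M.pt_one p
  mul_mem' {a b} ha hb := fun p hp => by rw [M.pt_mul, ha p hp, hb p hp]
  inv_mem' {a} ha := fun p hp => M.pt_inv (ha p hp)

end Model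

variable {P : Pts} {Q : Type*} [Group Q]

/-- an image of `Q` and one more element `u` with the rules of a checked derivation -/
structure Ctx (M : Model P Q) (D : Deriv) (G : Type*) [Group G] where
  φ : Q →* G
  u : G
  tok : ∀ k < D.tokW.length, φ (M.ev (nth [] D.tokW k)) * u = u * φ (M.ev (nth [] D.imgW k))
  uu : u * u = φ (M.ev D.uW)
  rel : ∀ F ∈ D.forms, (F.segs.map fun w => φ (M.ev w.1) * u).prod * φ (M.ev F.tail) = 1
  /-- the number of items -/
  N : ℕ
  words : D.wordsOK P = true
  steps : ∀ q < N, D.stepOK P q = true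
  len_le : D.imgW.length ≤ D.tokW.length
  par_zero : nth (0, []) D.par 0 = (0, [])

variable {M : Model P Q} {D : Deriv} {G : Type*} [Group G]

namespace Ctx

variable (C : Ctx M D G)

/-- the value of a word -/
noncomputable def hv (u : List ℕ) : G := C.φ (M.ev u)

theorem hv_append (u v : List ℕ) : C.hv (u ++ v) = C.hv u * C.hv v := by
  simp [hv, M.ev_append]

theorem hv_nil : C.hv [] = 1 := by simp [hv, M.ev_nil]

theorem hv_eq {u v : List ℕ} (h : P.eqW u v = true) : C.hv u = C.hv v := by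
  rw [hv, hv, M.eq_of_eqW h]

theorem hv_inv {u v : List ℕ} (h : P.eqW (u ++ v) [] = true) : C.hv v = (C.hv u)⁻¹ := by
  refine eq_inv_of_mul_eq_one_right ?_
  rw [← C.hv_append, C.hv_eq h, C.hv_nil]

/-- the same right coset -/
def Eqv (a b : G) : Prop := a * b⁻¹ ∈ C.φ.range

variable {C}

theorem Eqv.refl (a : G) : C.Eqv a a := by simp [Eqv, one_mem]

theorem Eqv.symm {a b : G} (h : C.Eqv a b) : C.Eqv b a := by
  have := inv_mem h
  simpa [Eqv] using this

theorem Eqv.trans {a b c : G} (h : C.Eqv a b) (h' : C.Eqv b c) : C.Eqv a c := by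
  have := mul_mem h h'
  simpa [Eqv, mul_assoc] using this

theorem Eqv.mul_right {a b : G} (h : C.Eqv a b) (c : G) : C.Eqv (a * c) (b * c) := by
  simpa [Eqv, mul_assoc] using h

variable (C)

theorem cat_z : ∀ a : List ℕ, (∀ x ∈ a, x < D.tokW.length) →
    C.hv (catW D.tokW a) * C.u = C.u * C.hv (catW D.imgW a)
  | [], _ => by
    show C.hv [] * C.u = C.u * C.hv []
    rw [C.hv_nil, one_mul, mul_one]
  | x :: a, h => by
    show C.hv (nth [] D.tokW x ++ catW D.tokW a) * C.u =
      C.u * C.hv (nth [] D.imgW x ++ catW D.imgW a)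
    rw [C.hv_append, C.hv_append, mul_assoc, cat_z a fun y hy => h y (List.mem_cons_of_mem _ hy),
      ← mul_assoc, show C.hv (nth [] D.tokW x) * C.u = C.u * C.hv (nth [] D.imgW x) from
        C.tok x (h x (List.mem_cons_self ..)), mul_assoc]

theorem hv_uI : C.hv D.uI = (C.u * C.u)⁻¹ := by
  have h : band (P.eqW (D.uW ++ D.uI) []) (forallB _ D.forms) = true := C.words
  rw [band_eq, Bool.and_eq_true] at h
  rw [C.uu]
  exact C.hv_inv h.1

theorem form_inv {F : Form} (hF : F ∈ D.forms) :
    C.hv F.tailI = (C.hv F.tail)⁻¹ ∧ ∀ w ∈ F.segs, C.hv w.2 = (C.hv w.1)⁻¹ := by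
  have h : band (P.eqW (D.uW ++ D.uI) []) (forallB _ D.forms) = true := C.words
  rw [band_eq, Bool.and_eq_true] at h
  have h' := forallB_iff.1 h.2 F hF
  rw [band_eq, Bool.and_eq_true] at h'
  exact ⟨C.hv_inv h'.1, fun w hw => C.hv_inv (forallB_iff.1 h'.2 w hw)⟩

/-- the coset representatives -/
noncomputable def W (C : Ctx M D G) : ℕ → G
  | 0 => 1
  | j + 1 => if h : (nth (0, []) D.par j).1 < j + 1 then
      W C (nth (0, []) D.par j).1 * C.hv (nth (0, []) D.par j).2 * C.u
    else 1
decreasing_by exact h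

theorem W_one : C.W 1 = C.u := by
  have hp : nth (0, []) D.par 0 = (0, []) := C.par_zero
  rw [W, dif_pos (by rw [hp]; exact Nat.one_pos)]
  simp [hp, W, hv_nil]

theorem split_prod {P A R T : G} (h : P * (A * R) * T = 1) : P * A = T⁻¹ * R⁻¹ :=
  calc P * A = P * (A * R) * T * (T⁻¹ * R⁻¹) := by group
    _ = T⁻¹ * R⁻¹ := by rw [h, one_mul]

/-- the meaning of an item -/
def Holds (it : Item) : Prop :=
  Bool.rec (motive := fun _ => Prop)
    (C.Eqv (C.W it.i * C.hv it.h * C.u) (C.W it.j * C.hv it.g))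
    (C.Eqv (C.W it.i * C.hv it.h) (C.W it.i) ∧ C.hv it.hi = (C.hv it.h)⁻¹) it.st

theorem holds_stab {it : Item} (h : it.st = true) :
    C.Holds it ↔ C.Eqv (C.W it.i * C.hv it.h) (C.W it.i) ∧ C.hv it.hi = (C.hv it.h)⁻¹ := by
  unfold Holds; rw [h]

theorem holds_edge {it : Item} (h : it.st = false) :
    C.Holds it ↔ C.Eqv (C.W it.i * C.hv it.h * C.u) (C.W it.j * C.hv it.g) := by
  unfold Holds; rw [h]

variable {q : ℕ}

theorem stabW_eqv {i : ℕ} (hq : ∀ k < q, C.Holds (D.item k)) :
    ∀ s : List (ℕ × Bool), D.stabsOK q i s = true →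
      C.Eqv (C.W i * C.hv (D.stabW s)) (C.W i)
  | [], _ => by
    show C.Eqv (C.W i * C.hv []) _
    rw [C.hv_nil, mul_one]; exact Eqv.refl _
  | e :: s, h => by
    have h' : band (band (Nat.blt e.1 q) (band (D.item e.1).st
        (Nat.beq (D.item e.1).i i))) (D.stabsOK q i s) = true := h
    simp only [band_eq, Bool.and_eq_true, beqN_iff, bltN_iff] at h'
    obtain ⟨⟨hk, hst, hi⟩, hs⟩ := h'
    have hh := (C.holds_stab hst).1 (hq _ hk)
    rw [hi] at hh
    obtain ⟨he, hinv⟩ := hh
    have ih := stabW_eqv hq s hs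
    obtain ⟨k, b⟩ := e
    cases b
    · show C.Eqv (C.W i * C.hv ((D.item k).h ++ D.stabW s)) _
      rw [C.hv_append, ← mul_assoc]
      exact (he.mul_right _).trans ih
    · show C.Eqv (C.W i * C.hv ((D.item k).hi ++ D.stabW s)) _
      rw [C.hv_append, hinv, ← mul_assoc]
      have h2 := (he.mul_right (C.hv (D.item k).h)⁻¹).symm
      rw [mul_inv_cancel_right] at h2
      exact (h2.mul_right _).trans ih

theorem bnot_iff {a : Bool} : bnot a = true ↔ a = false := by cases a <;> simp [bnot]

theorem useK_sound {i : ℕ} {h : List ℕ} {u : Use} {k : ℕ → List ℕ → Bool}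
    (hq : ∀ k < q, C.Holds (D.item k)) (hu : D.useK P q u i h k = true) :
    ∃ j g, k j g = true ∧ C.Eqv (C.W i * C.hv h * C.u) (C.W j * C.hv g) := by
  have h' : band (Nat.blt u.k q) (band (bnot (D.item u.k).st)
      (band (Nat.beq (D.item u.k).i i) (band (forallB (fun x => Nat.blt x D.tokW.length) u.a)
        (band (D.stabsOK q i u.s)
          (band (P.eqW h (D.stabW u.s ++ ((D.item u.k).h ++ catW D.tokW u.a)))
            (k (D.item u.k).j ((D.item u.k).g ++ catW D.imgW u.a))))))) = true := hu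
  simp only [band_eq, Bool.and_eq_true, beqN_iff, bltN_iff, forallB_iff, bnot_iff] at h'
  obtain ⟨hk, hst, hi, ha, hs, he, hk'⟩ := h'
  refine ⟨_, _, hk', ?_⟩
  have hh := (C.holds_edge hst).1 (hq _ hk)
  rw [hi] at hh
  rw [C.hv_eq he, C.hv_append, C.hv_append, C.hv_append]
  have hz := C.cat_z u.a ha
  generalize C.hv (catW D.tokW u.a) = x, C.hv (catW D.imgW u.a) = y at hz ⊢
  have h1 := ((C.stabW_eqv hq u.s hs).mul_right (C.hv (D.item u.k).h * x * C.u)).trans (b := _)
    (c := C.W (D.item u.k).j * (C.hv (D.item u.k).g * y))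
    (by
      have e : C.W i * (C.hv (D.item u.k).h * x * C.u) =
          C.W i * C.hv (D.item u.k).h * C.u * y := by simp [mul_assoc, hz]
      rw [e, ← mul_assoc (C.W _)]
      exact hh.mul_right y)
  simpa [mul_assoc] using h1

theorem fwdK_sound (hq : ∀ k < q, C.Holds (D.item k)) :
    ∀ (us : List Use) (segs : List (List ℕ × List ℕ)) (i : ℕ) (h : List ℕ)
      (k : List (List ℕ × List ℕ) → ℕ → List ℕ → Bool), D.fwdK P q us segs i h k = true →
      ∃ pre rest i' h', k rest i' h' = true ∧ segs = pre ++ rest ∧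
        C.Eqv (C.W i * C.hv h * (pre.map fun w => C.hv w.1 * C.u).prod) (C.W i' * C.hv h')
  | [], segs, i, h, k, hk => ⟨[], segs, i, h, hk, rfl, by simp [Eqv.refl]⟩
  | u :: us, [], i, h, k, hk => absurd (show false = true from hk) (by simp)
  | u :: us, w :: segs, i, h, k, hk => by
    obtain ⟨j, g, hjg, e⟩ := C.useK_sound hq (h := h ++ w.1)
      (k := fun j g => D.fwdK P q us segs j g k) hk
    obtain ⟨pre, rest, i', h', hk', hs, e'⟩ := fwdK_sound hq us segs j g k hjg
    refine ⟨w :: pre, rest, i', h', hk', by rw [hs]; rfl, ?_⟩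
    have := (e.mul_right _).trans e'
    rw [List.map_cons, List.prod_cons]
    simpa [C.hv_append, mul_assoc] using this

theorem bwdK_sound (hq : ∀ k < q, C.Holds (D.item k)) :
    ∀ (vs : List Use) (segs : List (List ℕ × List ℕ)) (i : ℕ) (h : List ℕ)
      (k : ℕ → List ℕ → Bool), (∀ w ∈ segs, C.hv w.2 = (C.hv w.1)⁻¹) →
      D.bwdK P q vs segs i h k = true →
      ∃ j g, k j g = true ∧
        C.Eqv (C.W i * C.hv h)
          (C.W j * C.hv g * (segs.reverse.map fun w => C.hv w.1 * C.u).prod)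
  | [], [], i, h, k, _, hk => ⟨i, h, hk, by simp [Eqv.refl]⟩
  | [], _ :: _, i, h, k, _, hk => absurd (show false = true from hk) (by simp)
  | u :: vs, [], i, h, k, _, hk => absurd (show false = true from hk) (by simp)
  | u :: vs, w :: segs, i, h, k, hw, hk => by
    obtain ⟨j, g, hjg, e⟩ := C.useK_sound hq (h := h ++ D.uI)
      (k := fun j g => D.bwdK P q vs segs j (g ++ w.2) k) hk
    obtain ⟨j', g', hk', e'⟩ := bwdK_sound hq vs segs j _ k
      (fun x hx => hw x (List.mem_cons_of_mem _ hx)) hjg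
    refine ⟨j', g', hk', ?_⟩
    rw [C.hv_append, C.hv_uI] at e
    rw [C.hv_append, hw w (List.mem_cons_self ..)] at e'
    have h1 := (e.mul_right C.u)
    have h2 := e'.mul_right (C.hv w.1 * C.u)
    have h3 := h1.trans (b := _) (c := C.W j' * C.hv g' *
      (segs.reverse.map fun w => C.hv w.1 * C.u).prod * (C.hv w.1 * C.u))
      (by simpa [mul_assoc] using h2)
    simpa [mul_assoc] using h3

theorem revL_eq {α : Type} : ∀ l : List α, revL l = l.reverse
  | [] => rfl
  | x :: l => by
    show revL l ++ [x] = _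
    rw [revL_eq l, List.reverse_cons]

theorem nth_form_mem {f : ℕ} (hf : f < D.forms.length) :
    nth noForm D.forms f ∈ D.forms := by
  rw [nth_eq, List.getD_eq_getElem _ _ hf]; exact List.getElem_mem hf

theorem stab_spec {it : Item} (h : isStab P it = true) :
    it.st = true ∧ C.hv it.hi = (C.hv it.h)⁻¹ := by
  have h' : band it.st (P.eqW (it.h ++ it.hi) []) = true := h
  rw [band_eq, Bool.and_eq_true] at h'
  exact ⟨h'.1, C.hv_inv h'.2⟩

theorem step_sound (hq : ∀ k < q, C.Holds (D.item k)) (it : Item) (J : Just)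
    (hs : D.justOK P q it J = true) : C.Holds it := by
  cases J with
  | gen =>
    simp only [Deriv.justOK, band_eq, Bool.and_eq_true, beqN_iff] at hs
    obtain ⟨hst, hi⟩ := C.stab_spec hs.1
    refine (C.holds_stab hst).2 ⟨?_, hi⟩
    rw [hs.2]
    show _ * (C.W 0)⁻¹ ∈ C.φ.range
    simp [W, hv]
  | tok k =>
    simp only [Deriv.justOK, band_eq, Bool.and_eq_true, beqN_iff, bltN_iff] at hs
    obtain ⟨h1, h2, hk, h3⟩ := hs
    obtain ⟨hst, hi⟩ := C.stab_spec h1
    refine (C.holds_stab hst).2 ⟨?_, hi⟩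
    rw [h2, C.W_one, C.hv_eq h3, show C.hv (nth [] D.imgW k) =
      C.φ (M.ev (nth [] D.imgW k)) from rfl, ← C.tok k hk]
    show _ * C.u⁻¹ ∈ C.φ.range
    simp
  | orb =>
    simp only [Deriv.justOK, band_eq, Bool.and_eq_true, beqN_iff, bltN_iff, bleN_iff, eqLN_iff,
      bnot_iff] at hs
    obtain ⟨hst, h1, hg, hp, hi, hh⟩ := hs
    refine (C.holds_edge hst).2 ?_
    obtain ⟨j', hj'⟩ := Nat.exists_eq_succ_of_ne_zero (Nat.pos_iff_ne_zero.1 h1)
    rw [hj'] at hp hi hh
    simp only [Nat.succ_eq_add_one, Nat.sub_eq, Nat.add_sub_cancel] at hp hi hh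
    rw [hj', hg, hi, hh, C.hv_nil, mul_one]
    conv => arg 3; rw [W, dif_pos hp]
    exact Eqv.refl _
  | rev k =>
    simp only [Deriv.justOK, band_eq, Bool.and_eq_true, beqN_iff, bltN_iff, bnot_iff] at hs
    obtain ⟨hst, hk, ho, hi, hh, hj, hg⟩ := hs
    refine (C.holds_edge hst).2 ?_
    rw [hi, hj, C.hv_eq hh, C.hv_eq hg, C.hv_append,
      show C.hv D.uW = C.u * C.u from C.uu.symm]
    have e := ((C.holds_edge ho).1 (hq k hk)).symm.mul_right C.u
    simpa [mul_assoc] using e
  | ded f i h us vs =>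
    simp only [Deriv.justOK, band_eq, Bool.and_eq_true, bltN_iff, bnot_iff] at hs
    obtain ⟨hst, hf, hF⟩ := hs
    have hmem := nth_form_mem hf
    generalize nth noForm D.forms f = F at hF hmem
    obtain ⟨hti, hwi⟩ := C.form_inv hmem
    obtain ⟨pre, rest, i', h', hk, hsegs, e⟩ := C.fwdK_sound hq us F.segs i h _ hF
    cases rest with
    | nil => exact absurd (show false = true from hk) (by simp)
    | cons w rest =>
      simp only [band_eq, Bool.and_eq_true, beqN_iff] at hk
      obtain ⟨hi, hh, hb⟩ := hk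
      obtain ⟨j, g, hjg, e'⟩ := C.bwdK_sound hq vs (revL rest) i (h ++ F.tailI) _
        (fun x hx => hwi x (by rw [hsegs]; rw [revL_eq, List.mem_reverse] at hx; simp [hx])) hb
      simp only [band_eq, Bool.and_eq_true, beqN_iff] at hjg
      rw [revL_eq, List.reverse_reverse, C.hv_append, hti] at e'
      refine (C.holds_edge hst).2 ?_
      rw [hi, hjg.1, C.hv_eq hh, C.hv_eq hjg.2, C.hv_append]
      have hr := C.rel F hmem
      rw [hsegs, List.map_append, List.prod_append, List.map_cons, List.prod_cons] at hr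
      have hr' : (pre.map fun w => C.hv w.1 * C.u).prod * (C.hv w.1 * C.u) =
          (C.hv F.tail)⁻¹ * ((rest.map fun w => C.hv w.1 * C.u).prod)⁻¹ := by
        exact split_prod hr
      have e1 := (e.symm.mul_right (C.hv w.1 * C.u))
      have e2 := e'.mul_right ((rest.map fun w => C.hv w.1 * C.u).prod)⁻¹
      rw [mul_inv_cancel_right] at e2
      have e3 := e1.trans (b := _) (c := C.W j * C.hv g) (by
        rw [mul_assoc (C.W i * C.hv h), hr']
        simpa [mul_assoc] using e2)
      simpa [mul_assoc] using e3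
  | loop f i h us =>
    simp only [Deriv.justOK, band_eq, Bool.and_eq_true, bltN_iff] at hs
    obtain ⟨h1, hf, hF⟩ := hs
    obtain ⟨hst, hinv⟩ := C.stab_spec h1
    have hmem := nth_form_mem hf
    generalize nth noForm D.forms f = F at hF hmem
    obtain ⟨pre, rest, i', h', hk, hsegs, e⟩ := C.fwdK_sound hq us F.segs i h _ hF
    cases rest with
    | cons w rest => exact absurd (show false = true from hk) (by simp)
    | nil =>
      simp only [band_eq, Bool.and_eq_true, beqN_iff] at hk
      obtain ⟨hi, hi', hh⟩ := hk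
      refine (C.holds_stab hst).2 ⟨?_, hinv⟩
      rw [List.append_nil] at hsegs
      subst hsegs
      have hr : (F.segs.map fun w => C.hv w.1 * C.u).prod = (C.hv F.tail)⁻¹ :=
        eq_inv_of_mul_eq_one_left (C.rel F hmem)
      rw [hr, hi'] at e
      have he := C.hv_eq hh
      rw [C.hv_append, C.hv_append] at he
      rw [hi]
      have e1 := e.mul_right ((C.hv h')⁻¹)
      rw [mul_inv_cancel_right] at e1
      have : C.hv it.h = C.hv h * (C.hv F.tail)⁻¹ * (C.hv h')⁻¹ := by
        rw [← he]; simp [mul_assoc]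
      rw [this]
      simpa [mul_assoc] using e1
  | clash i h u v =>
    simp only [Deriv.justOK, band_eq, Bool.and_eq_true] at hs
    obtain ⟨hst, hinv⟩ := C.stab_spec hs.1
    obtain ⟨j, g, hv', e1⟩ := C.useK_sound hq hs.2
    obtain ⟨j', g', hk, e2⟩ := C.useK_sound hq hv'
    simp only [band_eq, Bool.and_eq_true, beqN_iff] at hk
    refine (C.holds_stab hst).2 ⟨?_, hinv⟩
    have e := e1.symm.trans e2
    rw [← C.hv_eq hk.2.2, hk.2.1, C.hv_append] at e
    rw [hk.1]
    have := e.mul_right (C.hv g')⁻¹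
    simpa [mul_assoc] using this

/-- every item of the derivation holds -/
theorem holds_all : ∀ q < C.N, C.Holds (D.item q) := by
  intro q
  induction q using Nat.strongRecOn with
  | _ q IH =>
    intro hqN
    exact C.step_sound (fun k hk => IH k hk (hk.trans hqN)) _ _
      (C.steps q hqN)

theorem stabs_hold {i : ℕ} {s : List (ℕ × Bool)} (h : D.stabsOK C.N i s = true) :
    C.Eqv (C.W i * C.hv (D.stabW s)) (C.W i) :=
  C.stabW_eqv C.holds_all s h

end Ctx

end Cfsg.Agent.Lib.Th23
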