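import Cfsg.Agent.Lib.Th23.RelData
import Cfsg.Agent.Lib.Th23.DerivPart0
import Cfsg.Agent.Lib.Th23.DerivPart1
import Cfsg.Agent.Lib.Th23.DerivPart2
import Cfsg.Agent.Lib.Th23.DerivPart3
import Cfsg.Agent.Lib.Th23.DerivPart4
import Cfsg.Agent.Lib.Th23.DerivPart5
import Cfsg.Agent.Lib.Th23.DerivPart6
import Cfsg.Agent.Lib.Th23.DerivPart7

/-! Generated: the derivation of the coset equations of the presented Thompson group over `K = <a, b, c, d, e, s, t>`. -/

set_option maxRecDepth 100000

namespace Cfsg.Agent.Lib.Th23

/-- the derivation -/
def deriv : Deriv where
  tokW := thTokW
  imgW := thImgW
  forms := thForms
  uW := thUW
  uI := thUI
  par := [(0, []), (1, [1858]), (2, [0x45695423456343]), (1, [4]), (2, [0x45782345743453]), (3, [0x4562345664343]), (3, [0x684562312]), (3, [0x45623456634321]), (7, [0x74578234573412]), (7, [0x745723])]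
  items := [items0, items1, items2, items3, items4, items5, items6, items7, items8, items9, items10, items11, items12, items13, items14, items15, items16, items17, items18, items19, items20, items21, items22, items23, items24, items25, items26, items27, items28, items29, items30, items31, items32, items33, items34, items35, items36, items37, items38, items39, items40, items41, items42, items43, items44, items45, items46, items47, items48, items49, items50, items51, items52, items53, items54, items55, items56, items57, items58, items59, items60, items61, items62, items63, items64, items65, items66, items67, items68, items69, items70, items71, items72, items73, items74, items75, items76, items77, items78, items79, items80, items81, items82, items83, items84, items85, items86, items87, items88, items89, items90, items91, items92, items93, items94, items95, items96, items97, items98, items99, items100, items101, items102, items103, items104, items105, items106, items107, items108, items109, items110, items111, items112, items113, items114, items115, items116, items117, items118, items119, items120, items121, items122, items123, items124, items125, items126, items127, items128, items129, items130, items131, items132, items133]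
  justs := [justs0, justs1, justs2, justs3, justs4, justs5, justs6, justs7, justs8, justs9, justs10, justs11, justs12, justs13, justs14, justs15, justs16, justs17, justs18, justs19, justs20, justs21, justs22, justs23, justs24, justs25, justs26, justs27, justs28, justs29, justs30, justs31, justs32, justs33, justs34, justs35, justs36, justs37, justs38, justs39, justs40, justs41, justs42, justs43, justs44, justs45, justs46, justs47, justs48, justs49, justs50, justs51, justs52, justs53, justs54, justs55, justs56, justs57, justs58, justs59, justs60, justs61, justs62, justs63, justs64, justs65, justs66, justs67, justs68, justs69, justs70, justs71, justs72, justs73, justs74, justs75, justs76, justs77, justs78, justs79, justs80, justs81, justs82, justs83, justs84, justs85, justs86, justs87, justs88, justs89, justs90, justs91, justs92, justs93, justs94, justs95, justs96, justs97, justs98, justs99, justs100, justs101, justs102, justs103, justs104, justs105, justs106, justs107, justs108, justs109, justs110, justs111, justs112, justs113, justs114, justs115, justs116, justs117, justs118, justs119, justs120, justs121, justs122, justs123, justs124, justs125, justs126, justs127, justs128, justs129, justs130, justs131, justs132, justs133]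

/-- the number of items -/
def numItems : Nat := 4271

end Cfsg.Agent.Lib.Th23
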