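import Cfsg.Agent.Lib.Th23.DerivK

/-!
The tokens (fourteen: seven pairs `h * u = u * k` of generators of `U` and their inverses), the two
relators used as forms and the two words for `u` of the derivation for the Thompson group.
-/

namespace Cfsg.Agent.Lib.Th23

/-- generators of the stabiliser of the point 0 and their inverses -/
def thTokW : List (List Nat) := [[0x1], [0x1], [0x3], [0x3], [0x5], [0x5], [0x8], [0x9], [0x2312], [0x2132], [0x77566], [0x77566], [0x4342341234543423121], [0x1213243454321432434]]

/-- their conjugates by `u` -/
def thImgW : List (List Nat) := [[0x1], [0x1], [0x3], [0x3], [0x5], [0x5], [0x9], [0x8], [0x23125], [0x52132], [0x77566], [0x77566], [0x434], [0x434]]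

/-- `u * u` -/
def thUW : List Nat := [0x31]

/-- its inverse -/
def thUI : List Nat := [0x13]

/-- the relators 33 and 36 cut before each `u` -/
def thForms : List Form := [⟨[([0x134], [0x431]), ([0x421324], [0x423124]), ([0x1345323124], [0x4213235431]), ([0x13521324], [0x42312531])], [], []⟩, ⟨[([0x13731], [0x13631]), ([0x137], [0x631]), ([0x137], [0x631])], [], []⟩]

end Cfsg.Agent.Lib.Th23
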