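import Cfsg.Agent.Lib.Th23.TokRules
import Cfsg.Agent.Lib.Th23.RelData

/-!
The data of the derivation from the relators 1-3, 27-30, 32-36 and the seventh rule.
-/

set_option autoImplicit false
set_option linter.unusedSimpArgs false
set_option maxRecDepth 10000

namespace Cfsg.Agent.Lib.Th23

open Cfsg Cfsg.Spor
open Cfsg.Agent.Lib.ThK83 (Kbar rep decode)
open Cfsg.Agent.Lib.LyDC (band rangeB nth nth_eq band_eq rangeB_spec)

variable {G : Type*} [Group G] {idx : List ℕ} {A B C D E S T U : G} {φ : Kbar →* G}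

/-- the relators used by the derivation, apart from groups 1-3 -/
def dcIdx : List ℕ := [27, 28, 29, 30, 32, 33, 34, 35, 36]

/-- the seventh rule: `abacbdcdedcbadcbdcd * U = U * dcd` -/
def Seventh (φ : Kbar →* G) (U : G) : Prop :=
  φ (rep.ev (nth [] thTokW 12)) * U = U * φ (rep.ev (nth [] thImgW 12))

theorem tok_pairs : rangeB (fun k =>
    band ((kPts ThK83.base).eqW (nth [] thTokW (2 * k) ++ nth [] thTokW (2 * k + 1)) [])
      ((kPts ThK83.base).eqW (nth [] thImgW (2 * k) ++ nth [] thImgW (2 * k + 1)) [])) 7 0 = true := by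
  decide +kernel

theorem even_same : ∀ k < 6,
    nth [] thTokW (2 * k) = nth [] sixTok k ∧ nth [] thImgW (2 * k) = nth [] sixImg k := by
  decide +kernel

variable (m : KMaps φ A B C D E S T) (h : RelsHold idx A B C D E S T U)
include m h

theorem tok_even (hi : ∀ i ∈ dcIdx, i ∈ idx) (h7 : Seventh φ U) :
    ∀ k < 7, φ (rep.ev (nth [] thTokW (2 * k))) * U = U * φ (rep.ev (nth [] thImgW (2 * k))) := by
  intro k hk
  rcases Nat.lt_or_ge k 6 with hk6 | hk6
  · rw [(even_same k hk6).1, (even_same k hk6).2]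
    exact six_rules m h (fun i hj => hi i (by revert hj; revert i; decide)) k hk6
  · obtain rfl : k = 6 := by omega
    exact h7

theorem all_tok (hi : ∀ i ∈ dcIdx, i ∈ idx) (h7 : Seventh φ U) :
    ∀ k < thTokW.length, φ (rep.ev (nth [] thTokW k)) * U = U * φ (rep.ev (nth [] thImgW k)) := by
  intro k hk
  have hk14 : k < 14 := hk
  rcases Nat.mod_two_eq_zero_or_one k with h2 | h2
  · have := tok_even m h hi h7 (k / 2) (by omega)
    rwa [show 2 * (k / 2) = k by omega] at this
  · have e := rule_inv φ (tok_even m h hi h7 (k / 2) (by omega))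
    have t := rangeB_spec tok_pairs (k / 2) (Nat.zero_le _) (by omega)
    rw [band_eq, Bool.and_eq_true, show 2 * (k / 2) + 1 = k by omega] at t
    have inv_ev : ∀ u v, (kPts ThK83.base).eqW (u ++ v) [] = true →
        rep.ev v = (rep.ev u)⁻¹ := fun u v huv => by
      have e' : kM.ev (u ++ v) = kM.ev [] := kM.eq_of_eqW huv
      rw [kM.ev_append, kM.ev_nil] at e'
      exact eq_inv_of_mul_eq_one_right e'
    rwa [inv_ev _ _ t.1, inv_ev _ _ t.2]

theorem forms_eq (hi : ∀ i ∈ dcIdx, i ∈ idx) :
    ∀ F ∈ thForms, (F.segs.map fun w => φ (rep.ev w.1) * U).prod * φ (rep.ev F.tail) = 1 := by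
  have hu : U⁻¹ = C * A * U := by
    rw [u_inv h (hi 27 (by decide))]
    have ha : A⁻¹ = A := m.invol (l := 0) (by decide)
    have hc : C⁻¹ = C := m.invol (l := 2) (by decide)
    rw [ha, hc]
  have ha : A⁻¹ = A := m.invol (l := 0) (by decide)
  have hb : B⁻¹ = B := m.invol (l := 1) (by decide)
  have hc : C⁻¹ = C := m.invol (l := 2) (by decide)
  have hd : D⁻¹ = D := m.invol (l := 3) (by decide)
  have he : E⁻¹ = E := m.invol (l := 4) (by decide)
  simp only [thForms, List.forall_mem_cons, List.forall_mem_nil, and_true, List.map_cons,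
    List.map_nil, List.prod_cons, List.prod_nil, mul_one, m.ev_eq]
  refine ⟨?_, ?_⟩
  · rw [show decode [0x134] = [3, 2, 0] by decide +kernel,
      show decode [0x421324] = [3, 1, 2, 0, 1, 3] by decide +kernel,
      show decode [0x1345323124] = [3, 1, 0, 2, 1, 2, 4, 3, 2, 0] by decide +kernel,
      show decode [0x13521324] = [3, 1, 2, 0, 1, 4, 2, 0] by decide +kernel]
    have e := rel_get h (hi 33 (by decide)) (r := _) rfl
    simp only [map_mul, map_inv, map_pow, FreeGroup.lift_apply_of, thVal, mul_inv_rev, inv_inv,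
      ha, hb, hc, hd, he, hu, mul_assoc] at e
    simpa [letVal, decode, mul_assoc] using e
  · rw [show decode [0x13731] = [0, 2, 6, 2, 0] by decide +kernel,
      show decode [0x137] = [6, 2, 0] by decide +kernel]
    have e := rel_get h (hi 36 (by decide)) (r := _) rfl
    simp only [map_mul, map_inv, map_pow, FreeGroup.lift_apply_of, thVal, pow_succ, pow_zero,
      one_mul, mul_inv_rev, inv_inv, ha, hc, hu, mul_assoc] at e
    simpa [letVal, decode, mul_assoc] using e

theorem uu_eq (hi : ∀ i ∈ dcIdx, i ∈ idx) : U * U = φ (rep.ev thUW) :=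
  u_sq_ev m h (hi 27 (by decide))

end Cfsg.Agent.Lib.Th23
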