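import Cfsg.Agent.Lib.Th23.Cover
import Cfsg.Agent.Lib.Th23.KPts
import Cfsg.Agent.Lib.ThK83.Perm

/-! The group `Kbar` as a model of the words in nine letters. -/

set_option autoImplicit false

namespace Cfsg.Agent.Lib.Th23

/-- `Kbar` evaluates the words and acts on the points -/
noncomputable def kModel {base : List ℕ} (hb : ∀ b ∈ base, b < 17199)
    (hI : ThK83.rep.Inj base) : Model (kPts base) ThK83.Kbar where
  ev := ThK83.rep.ev
  pt := ThK83.rep.pt
  ev_nil := ThK83.rep.ev_nil
  ev_append := ThK83.rep.ev_append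
  pt_one := ThK83.rep.pt_one
  pt_mul := ThK83.rep.pt_mul
  pt_lt := ThK83.rep.pt_lt
  go_eq := ThK83.rep.go_eq
  base_lt := hb
  inj g h := hI g ((List.map_congr_left h).trans (List.map_id base))

theorem kModel_fixList {base : List ℕ} (hb : ∀ b ∈ base, b < 17199) (hI : ThK83.rep.Inj base)
    (ps : List ℕ) : (kModel hb hI).fixList ps = ThK83.rep.fixList ps := rfl

end Cfsg.Agent.Lib.Th23
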