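import Cfsg.Agent.Lib.Th23.Rules
import Cfsg.Agent.Lib.Th23.KModel
import Cfsg.Agent.Lib.ThK83.Kbar

/-!
The relators of groups 1-3 give a map from `Kbar`, with the values of the words.
-/

set_option autoImplicit false
set_option linter.unusedSimpArgs false

namespace Cfsg.Agent.Lib.Th23

open Cfsg Cfsg.Spor
open Cfsg.Agent.Lib.ThK83 (Kbar rep KRel kVal relW sq_of)

variable {G : Type*} [Group G] {idx : List ℕ} {A B C D E S T U : G}

/-- the relators of groups 1-3 in the form of `ThK83` -/
theorem kRel_of_rels (h : RelsHold idx A B C D E S T U) (hi : ∀ i < 27, i ∈ idx) :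
    KRel A B C D E S T := by
  have g : ∀ i < 27, ∀ r, Th.extra[i]? = some r →
      FreeGroup.lift (thVal A B C D E S T U) r = 1 := fun i h' => h i (hi i h')
  have hh : ∀ r ∈ Th.extra.take 27, FreeGroup.lift (thVal A B C D E S T U) r = 1 := by
    intro r hr
    obtain ⟨i, hlt, rfl⟩ := List.getElem_of_mem hr
    have hi' : i < 27 := by simp only [List.length_take] at hlt; omega
    refine g i hi' _ ?_
    rw [List.getElem_take, List.getElem?_eq_getElem]
  simp only [Th.extra, List.take_succ_cons, List.take_zero, List.forall_mem_cons, List.not_mem_nil,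
    false_imp_iff, implies_true, and_true, map_mul, map_inv, map_pow, FreeGroup.lift_apply_of,
    thVal] at hh
  obtain ⟨h1, h2, h3, h4, h5, h6, h7, h8, h9, h10, h11, h12, h13, h14, h15, h16, h17, h18, h19,
    h20, h21, h22, h23, h24, h25, h26, h27⟩ := hh
  have ia := sq_of A (by rw [← pow_two, h1])
  have ib := sq_of B (by rw [← pow_two, h2])
  have ic := sq_of C (by rw [← pow_two, h3])
  have id' := sq_of D (by rw [← pow_two, h4])
  have ie := sq_of E (by rw [← pow_two, h5])
  simp only [KRel, relW, List.forall_mem_cons, List.not_mem_nil, false_imp_iff, implies_true,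
    and_true]
  refine ⟨?_, ?_, ?_, ?_, ?_, ?_, ?_, ?_, ?_, ?_, ?_, ?_, ?_, ?_, ?_, ?_, ?_, ?_, ?_, ?_, ?_,
    ?_, ?_, ?_, ?_, ?_, ?_⟩
  all_goals simp only [kVal, List.map_cons, List.map_nil, List.prod_cons, List.prod_nil,
    List.getD_cons_zero, List.getD_cons_succ, mul_one]
  all_goals simp only [pow_succ, pow_zero, one_mul, mul_inv_rev, inv_inv, ia, ib, ic, id', ie,
    mul_assoc] at *
  all_goals assumption

/-- a map from `Kbar` with the values of the seven generators -/
theorem exists_kMaps (h : KRel A B C D E S T) : ∃ φ : Kbar →* G, KMaps φ A B C D E S T := by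
  obtain ⟨φ, hφ, -⟩ := ThK83.exists_hom h
  exact ⟨φ, ⟨hφ 0 (by decide), hφ 1 (by decide), hφ 2 (by decide), hφ 3 (by decide),
    hφ 4 (by decide), hφ 5 (by decide), hφ 7 (by decide)⟩⟩

/-- the model of the checkers -/
noncomputable def kM : Model (kPts ThK83.base) Kbar := kModel ThK83.base_lt ThK83.baseInj

namespace KMaps

variable {φ : Kbar →* G} (m : KMaps φ A B C D E S T)
include m

theorem invol {l : ℕ} (hl : l < 5) :
    (letVal A B C D E S T l)⁻¹ = letVal A B C D E S T l := by
  rw [← m.letter_eq l (by omega), ← map_inv, ← ThK83.rep_inv (by omega)]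
  congr 2
  revert l; decide

/-- two words that agree on the base have the same value -/
theorem word_eq {u v : List ℕ} (h : (kPts ThK83.base).eqW u v = true) :
    ((ThK83.decode u).map (letVal A B C D E S T)).prod =
      ((ThK83.decode v).map (letVal A B C D E S T)).prod := by
  rw [← m.ev_eq, ← m.ev_eq]
  exact congrArg φ (kM.eq_of_eqW h)

end KMaps

end Cfsg.Agent.Lib.Th23
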