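import Mathlib
import Cfsg.Prelude.Def_Spor_Th
import Cfsg.Agent.Lib.ThK83.Perm

/-!
Eight elements with some of the Thompson relators, and maps from `Kbar` onto the first seven:
words in nine letters evaluate to the expected products.
-/

set_option autoImplicit false

namespace Cfsg.Agent.Lib.Th23

open Cfsg Cfsg.Spor
open Cfsg.Agent.Lib.ThK83 (Kbar rep decode mem_decode_lt rep_inv)

variable {G : Type*} [Group G]

/-- the values of the eight generators -/
def thVal (A B C D E S T U : G) : Th.Gen → G
  | .a => A
  | .b => B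
  | .c => C
  | .d => D
  | .e => E
  | .s => S
  | .t => T
  | .u => U

theorem thVal_map {H : Type*} [Group H] (f : G →* H) (A B C D E S T U : G) (x : Th.Gen) :
    f (thVal A B C D E S T U x) = thVal (f A) (f B) (f C) (f D) (f E) (f S) (f T) (f U) x := by
  cases x <;> rfl

/-- the listed relators of `Th.extra` hold for the eight elements -/
def RelsHold (idx : List ℕ) (A B C D E S T U : G) : Prop :=
  ∀ i ∈ idx, ∀ r, Th.extra[i]? = some r → FreeGroup.lift (thVal A B C D E S T U) r = 1

theorem RelsHold.mono {idx idx' : List ℕ} {A B C D E S T U : G}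
    (h : RelsHold idx A B C D E S T U) (hsub : ∀ i ∈ idx', i ∈ idx) :
    RelsHold idx' A B C D E S T U := fun i hi => h i (hsub i hi)

/-- the relators hold in the image -/
theorem RelsHold.map {H : Type*} [Group H] (f : G →* H) {idx : List ℕ} {A B C D E S T U : G}
    (h : RelsHold idx A B C D E S T U) :
    RelsHold idx (f A) (f B) (f C) (f D) (f E) (f S) (f T) (f U) := by
  intro i hi r hr
  rw [← map_one f, ← h i hi r hr]
  exact (DFunLike.congr_fun (FreeGroup.ext_hom (f.comp (FreeGroup.lift _))
    (FreeGroup.lift (thVal (f A) (f B) (f C) (f D) (f E) (f S) (f T) (f U))) fun x => by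
      simpa using thVal_map f A B C D E S T U x) r).symm

/-- in the presented group all relators hold -/
theorem relsHold_th (idx : List ℕ) :
    RelsHold idx (PresentedGroup.of (rels := coxRelators Th.edges ∪ {r | r ∈ Th.extra}) Th.Gen.a)
      (PresentedGroup.of Th.Gen.b) (PresentedGroup.of Th.Gen.c) (PresentedGroup.of Th.Gen.d)
      (PresentedGroup.of Th.Gen.e) (PresentedGroup.of Th.Gen.s) (PresentedGroup.of Th.Gen.t)
      (PresentedGroup.of Th.Gen.u) := by
  intro i _ r hr
  have hm : r ∈ coxRelators Th.edges ∪ {r | r ∈ Th.extra} := Or.inr (List.mem_of_getElem? hr)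
  have e : FreeGroup.lift (thVal (PresentedGroup.of (rels := coxRelators Th.edges ∪ {r | r ∈ Th.extra}) Th.Gen.a)
      (PresentedGroup.of Th.Gen.b) (PresentedGroup.of Th.Gen.c) (PresentedGroup.of Th.Gen.d)
      (PresentedGroup.of Th.Gen.e) (PresentedGroup.of Th.Gen.s) (PresentedGroup.of Th.Gen.t)
      (PresentedGroup.of Th.Gen.u)) = PresentedGroup.mk _ :=
    FreeGroup.ext_hom _ _ fun x => by cases x <;> simp [thVal] <;> rfl
  rw [e]
  exact PresentedGroup.one_of_mem hm

/-- the value of a letter -/
def letVal (A B C D E S T : G) (l : ℕ) : G := [A, B, C, D, E, S, S⁻¹, T, T⁻¹].getD l 1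

/-- a map from `Kbar` with the seven given values on the generators -/
structure KMaps (φ : Kbar →* G) (A B C D E S T : G) : Prop where
  ha : φ (rep.f 0) = A
  hb : φ (rep.f 1) = B
  hc : φ (rep.f 2) = C
  hd : φ (rep.f 3) = D
  he : φ (rep.f 4) = E
  hs : φ (rep.f 5) = S
  ht : φ (rep.f 7) = T

namespace KMaps

variable {φ : Kbar →* G} {A B C D E S T : G} (m : KMaps φ A B C D E S T)
include m

theorem letter_eq : ∀ l < 9, φ (rep.f l) = letVal A B C D E S T l := by
  intro l hl
  interval_cases l
  · exact m.ha
  · exact m.hb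
  · exact m.hc
  · exact m.hd
  · exact m.he
  · exact m.hs
  · rw [show (6 : ℕ) = ThK83.invL 5 from rfl, rep_inv (by decide), map_inv, m.hs]; rfl
  · exact m.ht
  · rw [show (8 : ℕ) = ThK83.invL 7 from rfl, rep_inv (by decide), map_inv, m.ht]; rfl

theorem ev_eq (u : List ℕ) : φ (rep.ev u) = ((decode u).map (letVal A B C D E S T)).prod := by
  rw [ThK83.Rep.ev, map_list_prod, List.map_map]
  exact congrArg List.prod (List.map_congr_left fun l hl => m.letter_eq l (mem_decode_lt hl))

theorem ev_eq_decode {u v : List ℕ} (h : decode u = v) :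
    φ (rep.ev u) = (v.map (letVal A B C D E S T)).prod := by
  rw [m.ev_eq, h]

theorem range_eq : φ.range = Subgroup.closure ({A, B, C, D, E, S, T} : Set G) := by
  have e : Subgroup.closure ({rep.f 0, rep.f 1, rep.f 2, rep.f 3, rep.f 4, rep.f 5, rep.f 7}
      : Set Kbar) = ⊤ := by
    apply Subgroup.map_injective Kbar.subtype_injective
    rw [MonoidHom.map_closure, ← MonoidHom.range_eq_map, Subgroup.range_subtype]
    simp only [Set.image_insert_eq, Set.image_singleton, Subgroup.coe_subtype]
    rfl
  rw [MonoidHom.range_eq_map, ← e, MonoidHom.map_closure]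
  simp [Set.image_insert_eq, Set.image_singleton, m.ha, m.hb, m.hc, m.hd, m.he, m.hs, m.ht]

end KMaps

end Cfsg.Agent.Lib.Th23
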