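import Cfsg.Agent.Lib.Th23.Maps

/-!
The relators of groups (4), (5) and the first of group (6) as conjugation rules `x * U = U * y`.
-/

set_option autoImplicit false
set_option linter.unusedSimpArgs false

namespace Cfsg.Agent.Lib.Th23

open Cfsg Cfsg.Spor

variable {G : Type*} [Group G] {idx : List ℕ} {A B C D E S T U : G}

section
variable (h : RelsHold idx A B C D E S T U)
include h

theorem rel_get {i : ℕ} (hi : i ∈ idx) {r : FreeGroup Th.Gen} (hr : Th.extra[i]? = some r) :
    FreeGroup.lift (thVal A B C D E S T U) r = 1 := h i hi r hr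

theorem u_sq (hi : 27 ∈ idx) : U * U = A * C := by
  have e := rel_get h hi (r := _) rfl
  simp only [map_mul, map_inv, map_pow, FreeGroup.lift_apply_of, thVal, mul_inv_eq_one] at e
  rwa [pow_two] at e

theorem u_inv (hi : 27 ∈ idx) : U⁻¹ = C⁻¹ * A⁻¹ * U := by
  rw [← mul_inv_rev, ← u_sq h hi]; group

theorem rule_a (hi : 28 ∈ idx) : A * U = U * A := by
  have e := rel_get h hi (r := _) rfl
  simp only [map_mul, map_inv, map_pow, FreeGroup.lift_apply_of, thVal] at e
  calc A * U = A * U * (U⁻¹ * A⁻¹ * U * A) := by rw [e, mul_one]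
    _ = U * A := by group

theorem rule_c (hi : 29 ∈ idx) : C * U = U * C := by
  have e := rel_get h hi (r := _) rfl
  simp only [map_mul, map_inv, map_pow, FreeGroup.lift_apply_of, thVal] at e
  calc C * U = C * U * (U⁻¹ * C⁻¹ * U * C) := by rw [e, mul_one]
    _ = U * C := by group

theorem rule_e (hi : 30 ∈ idx) : E * U = U * E := by
  have e := rel_get h hi (r := _) rfl
  simp only [map_mul, map_inv, map_pow, FreeGroup.lift_apply_of, thVal] at e
  calc E * U = E * U * (U⁻¹ * E⁻¹ * U * E) := by rw [e, mul_one]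
    _ = U * E := by group

theorem rule_bacb (hi : 32 ∈ idx) :
    B⁻¹ * (A * C) * B * U = U * (B⁻¹ * (A * C) * B * E⁻¹) := by
  have e := rel_get h hi (r := _) rfl
  simp only [map_mul, map_inv, map_pow, FreeGroup.lift_apply_of, thVal, mul_inv_eq_one] at e
  rw [← e]; group

theorem rule_t (hi : 34 ∈ idx) : T * U = U * T⁻¹ := by
  have e := rel_get h hi (r := _) rfl
  simp only [map_mul, map_inv, map_pow, FreeGroup.lift_apply_of, thVal, mul_inv_eq_one] at e
  rw [← e]; group

theorem rule_sse (hi : 35 ∈ idx) :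
    S ^ 2 * E * (S ^ 2)⁻¹ * U = U * (S ^ 2 * E * (S ^ 2)⁻¹) := by
  have e := rel_get h hi (r := _) rfl
  simp only [map_mul, map_inv, map_pow, FreeGroup.lift_apply_of, thVal] at e
  calc S ^ 2 * E * (S ^ 2)⁻¹ * U
      = S ^ 2 * E * (S ^ 2)⁻¹ * U *
        (S ^ 2 * (E⁻¹ * ((S ^ 2)⁻¹ * U * S ^ 2)⁻¹ * E * ((S ^ 2)⁻¹ * U * S ^ 2))⁻¹ *
          (S ^ 2)⁻¹) := by rw [e]; group
    _ = _ := by group

end

end Cfsg.Agent.Lib.Th23
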