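import Mathlib
import Cfsg.Agent.Lib.ThK83.Kbar

/-!
Coset equations over the image of `Kbar` for words in `a, b, c, d, e, u, u⁻¹` (numbers `0, ..., 6`),
used to derive the seventh rule of the Thompson group from the relators without `s` and `t`.
-/

set_option autoImplicit false

namespace Cfsg.Agent.Lib.Th23.Seventh

open Cfsg.Agent.Lib

variable {G : Type*} [Group G]

/-- the inverse letter -/
def linv : ℕ → ℕ
  | 5 => 6
  | 6 => 5
  | l => l

/-- the inverse word -/
def winv (w : List ℕ) : List ℕ := (w.map linv).reverse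

/-- the value of a letter -/
noncomputable def lval (φ : ThK83.Kbar →* G) (u : G) : ℕ → G
  | 5 => u
  | 6 => u⁻¹
  | l => φ (ThK83.rep.f l)

/-- the value of a word -/
noncomputable def wd (φ : ThK83.Kbar →* G) (u : G) (w : List ℕ) : G :=
  (w.map (lval φ u)).prod

variable {φ : ThK83.Kbar →* G} {u : G}

theorem wd_append (a b : List ℕ) : wd φ u (a ++ b) = wd φ u a * wd φ u b := by
  simp [wd]

theorem wd_nil : wd φ u [] = 1 := rfl

theorem inv_small {l : ℕ} (h : l < 5) : φ (ThK83.rep.f l) = (φ (ThK83.rep.f l))⁻¹ := by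
  have hi : ∀ l < 5, ThK83.invL l = l := by decide
  have e := ThK83.rep_inv (l := l) (by omega)
  rw [hi l h] at e
  rw [← map_inv, ← e]

theorem lval_linv {l : ℕ} (h : l < 7) : lval φ u (linv l) = (lval φ u l)⁻¹ := by
  rcases Nat.lt_or_ge l 5 with h5 | h5
  · interval_cases l <;> exact inv_small (φ := φ) h5
  · interval_cases l
    · rfl
    · exact (inv_inv u).symm

theorem wd_winv : ∀ {w : List ℕ}, (∀ l ∈ w, l < 7) → wd φ u (winv w) = (wd φ u w)⁻¹
  | [], _ => by simp [wd, winv]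
  | l :: w, h => by
    have e : winv (l :: w) = winv w ++ [linv l] := by simp [winv]
    rw [e, wd_append, wd_winv fun x hx => h x (List.mem_cons_of_mem _ hx)]
    simp [wd, lval_linv (φ := φ) (u := u) (h l (List.mem_cons_self ..))]

theorem wd_rot {r : List ℕ} (h : wd φ u r = 1) (s : ℕ) :
    wd φ u (r.drop s ++ r.take s) = 1 := by
  rw [wd_append, mul_eq_one_comm, ← wd_append, List.take_append_drop, h]

theorem wd_rot_inv {r : List ℕ} (h : wd φ u r = 1) (hl : ∀ l ∈ r, l < 7) (s : ℕ) :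
    wd φ u ((winv r).drop s ++ (winv r).take s) = 1 :=
  wd_rot (by rw [wd_winv hl, h, inv_one]) s

theorem wd_decode {k : List ℕ} (h : ∀ l ∈ ThK83.decode k, l < 5) :
    wd φ u (ThK83.decode k) = φ (ThK83.rep.ev k) := by
  rw [ThK83.Rep.ev, map_list_prod, List.map_map, wd]
  refine congrArg List.prod (List.map_congr_left fun l hl => ?_)
  have hl5 := h l hl
  interval_cases l <;> rfl

theorem ev_eq {k k' : List ℕ} (h : ThK83.tabs.same ThK83.base k k' = true) :
    ThK83.rep.ev k = ThK83.rep.ev k' :=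
  ThK83.rep.eq_of_same ThK83.base_lt ThK83.baseInj h

theorem wd_rel {k : List ℕ} (h : ∀ l ∈ ThK83.decode k, l < 5)
    (h' : ThK83.tabs.same ThK83.base k [] = true) : wd φ u (ThK83.decode k) = 1 := by
  rw [wd_decode h, ev_eq h', ThK83.rep.ev_nil, map_one]

/-- the coset of `x` moves along `w` to the coset of `y` with the factor `k` -/
def Eq1 (φ : ThK83.Kbar →* G) (u : G) (x w y k : List ℕ) : Prop :=
  wd φ u x * wd φ u w = φ (ThK83.rep.ev k) * wd φ u y

theorem nil_step (x : List ℕ) : Eq1 φ u x [] x [] := by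
  simp [Eq1, wd_nil, ThK83.rep.ev_nil]

theorem def_step (x : List ℕ) (g : ℕ) : Eq1 φ u x [g] (x ++ [g]) [] := by
  simp [Eq1, wd_append, ThK83.rep.ev_nil]

theorem k_step {k : List ℕ} {w : List ℕ} (hk : ThK83.decode k = w) (h : ∀ l ∈ w, l < 5) :
    Eq1 φ u [] w [] k := by
  subst hk
  simp [Eq1, wd_decode h, wd_nil]

theorem cons_step {x w y k v z k' : List ℕ} (h₁ : Eq1 φ u x w y k) (h₂ : Eq1 φ u y v z k') :
    Eq1 φ u x (w ++ v) z (k ++ k') := by
  show _ = _
  rw [wd_append, ← mul_assoc, h₁, mul_assoc, h₂, ThK83.rep.ev_append, map_mul, mul_assoc]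

theorem norm_step {x w y k k' : List ℕ} (h : ThK83.tabs.same ThK83.base k k' = true)
    (h₁ : Eq1 φ u x w y k) : Eq1 φ u x w y k' := by
  unfold Eq1 at h₁ ⊢
  rw [← ev_eq h]
  exact h₁

theorem rev_step {x w y k k' : List ℕ} (hl : ∀ l ∈ w, l < 7)
    (h : ThK83.tabs.same ThK83.base (k' ++ k) [] = true) (h₁ : Eq1 φ u x w y k) :
    Eq1 φ u y (winv w) x k' := by
  have e : φ (ThK83.rep.ev k') * φ (ThK83.rep.ev k) = 1 := by
    rw [← map_mul, ← ThK83.rep.ev_append, ev_eq h, ThK83.rep.ev_nil, map_one]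
  show _ = _
  rw [wd_winv hl, mul_inv_eq_iff_eq_mul, mul_assoc, h₁, ← mul_assoc, e, one_mul]

theorem ded_step {x p a k₁ q b k₂ m k : List ℕ} (hq : ∀ l ∈ q, l < 7)
    (hrel : wd φ u (p ++ (m ++ winv q)) = 1)
    (h : ThK83.tabs.same ThK83.base (k₁ ++ k) k₂ = true)
    (h₁ : Eq1 φ u x p a k₁) (h₂ : Eq1 φ u x q b k₂) : Eq1 φ u a m b k := by
  rw [wd_append, wd_append, wd_winv hq, ← mul_assoc, mul_inv_eq_one] at hrel
  unfold Eq1 at h₂
  rw [← hrel, ← mul_assoc, h₁, ← ev_eq h, ThK83.rep.ev_append, map_mul, mul_assoc, mul_assoc]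
    at h₂
  exact mul_left_cancel h₂

theorem join_step {x p a k₁ b k₂ k : List ℕ}
    (h : ThK83.tabs.same ThK83.base (k₁ ++ k) k₂ = true)
    (h₁ : Eq1 φ u x p a k₁) (h₂ : Eq1 φ u x p b k₂) : Eq1 φ u a [] b k := by
  unfold Eq1 at h₂
  rw [h₁, ← ev_eq h, ThK83.rep.ev_append, map_mul, mul_assoc] at h₂
  show wd φ u a * wd φ u [] = _
  rw [wd_nil, mul_one]
  exact mul_left_cancel h₂

theorem move_step {a b j m k k₃ kk : List ℕ}
    (h : ThK83.tabs.same ThK83.base (k ++ kk) k₃ = true)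
    (h₁ : Eq1 φ u a [] b k) (h₂ : Eq1 φ u a m j k₃) : Eq1 φ u b m j kk := by
  unfold Eq1 at h₁ h₂
  rw [wd_nil, mul_one] at h₁
  rw [h₁, ← ev_eq h, ThK83.rep.ev_append, map_mul, mul_assoc, mul_assoc] at h₂
  exact mul_left_cancel h₂

end Cfsg.Agent.Lib.Th23.Seventh
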