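import Cfsg.Agent.Lib.Th23.KBridge

/-!
Six of the seven rules `h * U = U * k` for generators `(h, k)` of `U ∩ Kbar`, and the value of `U²`,
as equations between values of packed words: `a, c, e, (t, t⁻¹), (bacb, ebacb), s²es⁻²`.
-/

set_option autoImplicit false
set_option linter.unusedSimpArgs false

namespace Cfsg.Agent.Lib.Th23

open Cfsg Cfsg.Spor
open Cfsg.Agent.Lib.ThK83 (Kbar rep decode)

variable {G : Type*} [Group G] {idx : List ℕ} {A B C D E S T U : G} {φ : Kbar →* G}

/-- the word list of the six rules -/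
def sixTok : List (List ℕ) := [[1], [3], [5], [8], [0x2312], [0x77566]]

/-- their images -/
def sixImg : List (List ℕ) := [[1], [3], [5], [9], [0x23125], [0x77566]]

theorem dec_six :
    decode [1] = [0] ∧ decode [3] = [2] ∧ decode [5] = [4] ∧ decode [8] = [7] ∧ decode [9] = [8] ∧
    decode [0x2312] = [1, 0, 2, 1] ∧ decode [0x23125] = [4, 1, 0, 2, 1] ∧
    decode [0x52312] = [1, 0, 2, 1, 4] ∧ decode [0x77566] = [5, 5, 4, 6, 6] ∧
    decode [0x31] = [0, 2] ∧ decode [0x13] = [2, 0] := by decide +kernel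

theorem ebacb_eq : (kPts ThK83.base).eqW [0x23125] [0x52312] = true := by decide +kernel

variable (m : KMaps φ A B C D E S T) (h : RelsHold idx A B C D E S T U)
include m h

theorem six_rules (hi : ∀ i ∈ [27, 28, 29, 30, 32, 34, 35], i ∈ idx) :
    ∀ k < 6, φ (rep.ev (LyDC.nth [] sixTok k)) * U = U * φ (rep.ev (LyDC.nth [] sixImg k)) := by
  obtain ⟨d1, d3, d5, d8, d9, db, deb, dbe, ds, -, -⟩ := dec_six
  intro k hk
  interval_cases k <;> simp only [LyDC.nth_eq, sixTok, sixImg, List.getD_cons_zero,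
    List.getD_cons_succ, m.ev_eq]
  · rw [d1]; simpa [letVal] using rule_a h (hi 28 (by simp))
  · rw [d3]; simpa [letVal] using rule_c h (hi 29 (by simp))
  · rw [d5]; simpa [letVal] using rule_e h (hi 30 (by simp))
  · rw [d8, d9]; simpa [letVal] using rule_t h (hi 34 (by simp))
  · rw [m.word_eq ebacb_eq, db, dbe]
    have hb : B⁻¹ = B := m.invol (l := 1) (by decide)
    have he : E⁻¹ = E := m.invol (l := 4) (by decide)
    have e := rule_bacb h (hi 32 (by simp))
    rw [hb, he] at e
    simpa [letVal, mul_assoc] using e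
  · rw [ds]
    simpa [letVal, mul_assoc, pow_two, mul_inv_rev] using rule_sse h (hi 35 (by simp))

theorem u_sq_ev (hi : 27 ∈ idx) : U * U = φ (rep.ev [0x31]) := by
  rw [m.ev_eq, dec_six.2.2.2.2.2.2.2.2.2.1]
  simpa [letVal] using u_sq h hi

theorem u_inv_ev (hi : 27 ∈ idx) : U⁻¹ = φ (rep.ev [0x13]) * U := by
  rw [m.ev_eq, dec_six.2.2.2.2.2.2.2.2.2.2, u_inv h hi]
  have ha : A⁻¹ = A := m.invol (l := 0) (by decide)
  have hc : C⁻¹ = C := m.invol (l := 2) (by decide)
  simp [letVal, ha, hc]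

end Cfsg.Agent.Lib.Th23
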